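import Cfsg.Agent.Fi24Mult.Cov.Defs

/-! Generated: kernel checks. -/

set_option Elab.async false
set_option maxRecDepth 100000

namespace Cfsg.Agent.Fi24Mult.Cov

open Cfsg.Agent.CosetCert

theorem pairsTestAt52000 : allFrom pairsTest 52000 1000 = true := by decide +kernel

theorem pairsTestAt53000 : allFrom pairsTest 53000 1000 = true := by decide +kernel

theorem pairsTestAt54000 : allFrom pairsTest 54000 1000 = true := by decide +kernel

theorem pairsTestAt55000 : allFrom pairsTest 55000 1000 = true := by decide +kernel

theorem pairsTestAt56000 : allFrom pairsTest 56000 1000 = true := by decide +kernel

theorem pairsTestAt57000 : allFrom pairsTest 57000 1000 = true := by decide +kernel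

theorem pairsTestAt58000 : allFrom pairsTest 58000 1000 = true := by decide +kernel

theorem pairsTestAt59000 : allFrom pairsTest 59000 1000 = true := by decide +kernel

theorem pairsTestAt60000 : allFrom pairsTest 60000 1000 = true := by decide +kernel

theorem pairsTestAt61000 : allFrom pairsTest 61000 1000 = true := by decide +kernel

theorem pairsTestAt62000 : allFrom pairsTest 62000 1000 = true := by decide +kernel

theorem pairsTestAt63000 : allFrom pairsTest 63000 1000 = true := by decide +kernel

theorem pairsTestAt64000 : allFrom pairsTest 64000 1000 = true := by decide +kernel

theorem pairsTestAt65000 : allFrom pairsTest 65000 1000 = true := by decide +kernel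

theorem pairsTestAt66000 : allFrom pairsTest 66000 1000 = true := by decide +kernel

theorem pairsTestAt67000 : allFrom pairsTest 67000 1000 = true := by decide +kernel

theorem pairsTestAt68000 : allFrom pairsTest 68000 1000 = true := by decide +kernel

theorem pairsTestAt69000 : allFrom pairsTest 69000 1000 = true := by decide +kernel

theorem pairsTestAt70000 : allFrom pairsTest 70000 1000 = true := by decide +kernel

theorem pairsTestAt71000 : allFrom pairsTest 71000 1000 = true := by decide +kernel

theorem pairsTestAt72000 : allFrom pairsTest 72000 1000 = true := by decide +kernel

theorem pairsTestAt73000 : allFrom pairsTest 73000 1000 = true := by decide +kernel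

theorem pairsTestAt74000 : allFrom pairsTest 74000 1000 = true := by decide +kernel

theorem pairsTestAt75000 : allFrom pairsTest 75000 1000 = true := by decide +kernel

theorem pairsTestAt76000 : allFrom pairsTest 76000 1000 = true := by decide +kernel

theorem pairsTestAt77000 : allFrom pairsTest 77000 1000 = true := by decide +kernel

theorem pairsTestAt78000 : allFrom pairsTest 78000 1000 = true := by decide +kernel

theorem pairsTestAt79000 : allFrom pairsTest 79000 1000 = true := by decide +kernel

theorem pairsTestAt80000 : allFrom pairsTest 80000 1000 = true := by decide +kernel

theorem pairsTestAt81000 : allFrom pairsTest 81000 1000 = true := by decide +kernel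

theorem pairsTestAt82000 : allFrom pairsTest 82000 1000 = true := by decide +kernel

theorem pairsTestAt83000 : allFrom pairsTest 83000 1000 = true := by decide +kernel

theorem pairsTestAt84000 : allFrom pairsTest 84000 1000 = true := by decide +kernel

theorem pairsTestAt85000 : allFrom pairsTest 85000 1000 = true := by decide +kernel

theorem pairsTestAt86000 : allFrom pairsTest 86000 1000 = true := by decide +kernel

theorem pairsTestAt87000 : allFrom pairsTest 87000 1000 = true := by decide +kernel

theorem pairsTestAt88000 : allFrom pairsTest 88000 1000 = true := by decide +kernel

theorem pairsTestAt89000 : allFrom pairsTest 89000 1000 = true := by decide +kernel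

theorem pairsTestAt90000 : allFrom pairsTest 90000 1000 = true := by decide +kernel

theorem pairsTestAt91000 : allFrom pairsTest 91000 1000 = true := by decide +kernel

theorem pairsTestAt92000 : allFrom pairsTest 92000 1000 = true := by decide +kernel

theorem pairsTestAt93000 : allFrom pairsTest 93000 1000 = true := by decide +kernel

theorem pairsTestAt94000 : allFrom pairsTest 94000 1000 = true := by decide +kernel

theorem pairsTestAt95000 : allFrom pairsTest 95000 1000 = true := by decide +kernel

theorem pairsTestAt96000 : allFrom pairsTest 96000 1000 = true := by decide +kernel

theorem pairsTestAt97000 : allFrom pairsTest 97000 1000 = true := by decide +kernel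

theorem pairsTestAt98000 : allFrom pairsTest 98000 1000 = true := by decide +kernel

theorem pairsTestAt99000 : allFrom pairsTest 99000 1000 = true := by decide +kernel

theorem pairsTestAt100000 : allFrom pairsTest 100000 1000 = true := by decide +kernel

theorem pairsTestAt101000 : allFrom pairsTest 101000 1000 = true := by decide +kernel

theorem pairsTestAt102000 : allFrom pairsTest 102000 1000 = true := by decide +kernel

theorem pairsTestAt103000 : allFrom pairsTest 103000 1000 = true := by decide +kernel

end Cfsg.Agent.Fi24Mult.Cov
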