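import Cfsg.Agent.Fi24Mult.Cov.Defs

/-! Generated: kernel checks. -/

set_option Elab.async false
set_option maxRecDepth 100000

namespace Cfsg.Agent.Fi24Mult.Cov

open Cfsg.Agent.CosetCert

theorem pairsTestAt104000 : allFrom pairsTest 104000 1000 = true := by decide +kernel

theorem pairsTestAt105000 : allFrom pairsTest 105000 1000 = true := by decide +kernel

theorem pairsTestAt106000 : allFrom pairsTest 106000 1000 = true := by decide +kernel

theorem pairsTestAt107000 : allFrom pairsTest 107000 1000 = true := by decide +kernel

theorem pairsTestAt108000 : allFrom pairsTest 108000 1000 = true := by decide +kernel

theorem pairsTestAt109000 : allFrom pairsTest 109000 1000 = true := by decide +kernel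

theorem pairsTestAt110000 : allFrom pairsTest 110000 1000 = true := by decide +kernel

theorem pairsTestAt111000 : allFrom pairsTest 111000 1000 = true := by decide +kernel

theorem pairsTestAt112000 : allFrom pairsTest 112000 1000 = true := by decide +kernel

theorem pairsTestAt113000 : allFrom pairsTest 113000 1000 = true := by decide +kernel

theorem pairsTestAt114000 : allFrom pairsTest 114000 1000 = true := by decide +kernel

theorem pairsTestAt115000 : allFrom pairsTest 115000 1000 = true := by decide +kernel

theorem pairsTestAt116000 : allFrom pairsTest 116000 1000 = true := by decide +kernel

theorem pairsTestAt117000 : allFrom pairsTest 117000 1000 = true := by decide +kernel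

theorem pairsTestAt118000 : allFrom pairsTest 118000 1000 = true := by decide +kernel

theorem pairsTestAt119000 : allFrom pairsTest 119000 1000 = true := by decide +kernel

theorem pairsTestAt120000 : allFrom pairsTest 120000 1000 = true := by decide +kernel

theorem pairsTestAt121000 : allFrom pairsTest 121000 1000 = true := by decide +kernel

theorem pairsTestAt122000 : allFrom pairsTest 122000 1000 = true := by decide +kernel

theorem pairsTestAt123000 : allFrom pairsTest 123000 1000 = true := by decide +kernel

theorem pairsTestAt124000 : allFrom pairsTest 124000 1000 = true := by decide +kernel

theorem pairsTestAt125000 : allFrom pairsTest 125000 1000 = true := by decide +kernel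

theorem pairsTestAt126000 : allFrom pairsTest 126000 1000 = true := by decide +kernel

theorem pairsTestAt127000 : allFrom pairsTest 127000 1000 = true := by decide +kernel

theorem pairsTestAt128000 : allFrom pairsTest 128000 1000 = true := by decide +kernel

theorem pairsTestAt129000 : allFrom pairsTest 129000 1000 = true := by decide +kernel

theorem pairsTestAt130000 : allFrom pairsTest 130000 1000 = true := by decide +kernel

theorem pairsTestAt131000 : allFrom pairsTest 131000 1000 = true := by decide +kernel

theorem pairsTestAt132000 : allFrom pairsTest 132000 1000 = true := by decide +kernel

theorem pairsTestAt133000 : allFrom pairsTest 133000 1000 = true := by decide +kernel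

theorem pairsTestAt134000 : allFrom pairsTest 134000 1000 = true := by decide +kernel

theorem pairsTestAt135000 : allFrom pairsTest 135000 1000 = true := by decide +kernel

theorem pairsTestAt136000 : allFrom pairsTest 136000 1000 = true := by decide +kernel

theorem pairsTestAt137000 : allFrom pairsTest 137000 1000 = true := by decide +kernel

theorem pairsTestAt138000 : allFrom pairsTest 138000 1000 = true := by decide +kernel

theorem pairsTestAt139000 : allFrom pairsTest 139000 1000 = true := by decide +kernel

theorem pairsTestAt140000 : allFrom pairsTest 140000 1000 = true := by decide +kernel

theorem pairsTestAt141000 : allFrom pairsTest 141000 1000 = true := by decide +kernel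

theorem pairsTestAt142000 : allFrom pairsTest 142000 1000 = true := by decide +kernel

theorem pairsTestAt143000 : allFrom pairsTest 143000 1000 = true := by decide +kernel

theorem pairsTestAt144000 : allFrom pairsTest 144000 1000 = true := by decide +kernel

theorem pairsTestAt145000 : allFrom pairsTest 145000 1000 = true := by decide +kernel

theorem pairsTestAt146000 : allFrom pairsTest 146000 1000 = true := by decide +kernel

theorem pairsTestAt147000 : allFrom pairsTest 147000 1000 = true := by decide +kernel

theorem pairsTestAt148000 : allFrom pairsTest 148000 1000 = true := by decide +kernel

theorem pairsTestAt149000 : allFrom pairsTest 149000 1000 = true := by decide +kernel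

theorem pairsTestAt150000 : allFrom pairsTest 150000 1000 = true := by decide +kernel

theorem pairsTestAt151000 : allFrom pairsTest 151000 1000 = true := by decide +kernel

theorem pairsTestAt152000 : allFrom pairsTest 152000 1000 = true := by decide +kernel

theorem pairsTestAt153000 : allFrom pairsTest 153000 1000 = true := by decide +kernel

theorem pairsTestAt154000 : allFrom pairsTest 154000 1000 = true := by decide +kernel

theorem pairsTestAt155000 : allFrom pairsTest 155000 1000 = true := by decide +kernel

end Cfsg.Agent.Fi24Mult.Cov
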