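import Cfsg.Agent.Fi24Mult.Cov.Defs

/-! Generated: kernel checks. -/

set_option Elab.async false
set_option maxRecDepth 100000

namespace Cfsg.Agent.Fi24Mult.Cov

open Cfsg.Agent.CosetCert

theorem pairsTestAt156000 : allFrom pairsTest 156000 1000 = true := by decide +kernel

theorem pairsTestAt157000 : allFrom pairsTest 157000 1000 = true := by decide +kernel

theorem pairsTestAt158000 : allFrom pairsTest 158000 1000 = true := by decide +kernel

theorem pairsTestAt159000 : allFrom pairsTest 159000 1000 = true := by decide +kernel

theorem pairsTestAt160000 : allFrom pairsTest 160000 1000 = true := by decide +kernel

theorem pairsTestAt161000 : allFrom pairsTest 161000 1000 = true := by decide +kernel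

theorem pairsTestAt162000 : allFrom pairsTest 162000 1000 = true := by decide +kernel

theorem pairsTestAt163000 : allFrom pairsTest 163000 1000 = true := by decide +kernel

theorem pairsTestAt164000 : allFrom pairsTest 164000 1000 = true := by decide +kernel

theorem pairsTestAt165000 : allFrom pairsTest 165000 1000 = true := by decide +kernel

theorem pairsTestAt166000 : allFrom pairsTest 166000 1000 = true := by decide +kernel

theorem pairsTestAt167000 : allFrom pairsTest 167000 1000 = true := by decide +kernel

theorem pairsTestAt168000 : allFrom pairsTest 168000 1000 = true := by decide +kernel

theorem pairsTestAt169000 : allFrom pairsTest 169000 1000 = true := by decide +kernel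

theorem pairsTestAt170000 : allFrom pairsTest 170000 1000 = true := by decide +kernel

theorem pairsTestAt171000 : allFrom pairsTest 171000 1000 = true := by decide +kernel

theorem pairsTestAt172000 : allFrom pairsTest 172000 1000 = true := by decide +kernel

theorem pairsTestAt173000 : allFrom pairsTest 173000 1000 = true := by decide +kernel

theorem pairsTestAt174000 : allFrom pairsTest 174000 1000 = true := by decide +kernel

theorem pairsTestAt175000 : allFrom pairsTest 175000 1000 = true := by decide +kernel

theorem pairsTestAt176000 : allFrom pairsTest 176000 1000 = true := by decide +kernel

theorem pairsTestAt177000 : allFrom pairsTest 177000 1000 = true := by decide +kernel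

theorem pairsTestAt178000 : allFrom pairsTest 178000 1000 = true := by decide +kernel

theorem pairsTestAt179000 : allFrom pairsTest 179000 1000 = true := by decide +kernel

theorem pairsTestAt180000 : allFrom pairsTest 180000 1000 = true := by decide +kernel

theorem pairsTestAt181000 : allFrom pairsTest 181000 1000 = true := by decide +kernel

theorem pairsTestAt182000 : allFrom pairsTest 182000 1000 = true := by decide +kernel

theorem pairsTestAt183000 : allFrom pairsTest 183000 1000 = true := by decide +kernel

theorem pairsTestAt184000 : allFrom pairsTest 184000 1000 = true := by decide +kernel

theorem pairsTestAt185000 : allFrom pairsTest 185000 1000 = true := by decide +kernel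

theorem pairsTestAt186000 : allFrom pairsTest 186000 1000 = true := by decide +kernel

theorem pairsTestAt187000 : allFrom pairsTest 187000 1000 = true := by decide +kernel

theorem pairsTestAt188000 : allFrom pairsTest 188000 1000 = true := by decide +kernel

theorem pairsTestAt189000 : allFrom pairsTest 189000 1000 = true := by decide +kernel

theorem pairsTestAt190000 : allFrom pairsTest 190000 1000 = true := by decide +kernel

theorem pairsTestAt191000 : allFrom pairsTest 191000 1000 = true := by decide +kernel

theorem pairsTestAt192000 : allFrom pairsTest 192000 1000 = true := by decide +kernel

theorem pairsTestAt193000 : allFrom pairsTest 193000 1000 = true := by decide +kernel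

theorem pairsTestAt194000 : allFrom pairsTest 194000 1000 = true := by decide +kernel

theorem pairsTestAt195000 : allFrom pairsTest 195000 1000 = true := by decide +kernel

theorem pairsTestAt196000 : allFrom pairsTest 196000 1000 = true := by decide +kernel

theorem pairsTestAt197000 : allFrom pairsTest 197000 1000 = true := by decide +kernel

theorem pairsTestAt198000 : allFrom pairsTest 198000 1000 = true := by decide +kernel

theorem pairsTestAt199000 : allFrom pairsTest 199000 1000 = true := by decide +kernel

theorem pairsTestAt200000 : allFrom pairsTest 200000 1000 = true := by decide +kernel

theorem pairsTestAt201000 : allFrom pairsTest 201000 1000 = true := by decide +kernel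

theorem pairsTestAt202000 : allFrom pairsTest 202000 1000 = true := by decide +kernel

theorem pairsTestAt203000 : allFrom pairsTest 203000 1000 = true := by decide +kernel

theorem pairsTestAt204000 : allFrom pairsTest 204000 1000 = true := by decide +kernel

theorem pairsTestAt205000 : allFrom pairsTest 205000 1000 = true := by decide +kernel

theorem pairsTestAt206000 : allFrom pairsTest 206000 1000 = true := by decide +kernel

theorem pairsTestAt207000 : allFrom pairsTest 207000 1000 = true := by decide +kernel

end Cfsg.Agent.Fi24Mult.Cov
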