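import Cfsg.Agent.Fi24Mult.Cov.Defs

/-! Generated: kernel checks. -/

set_option Elab.async false
set_option maxRecDepth 100000

namespace Cfsg.Agent.Fi24Mult.Cov

open Cfsg.Agent.CosetCert

theorem pairsTestAt208000 : allFrom pairsTest 208000 1000 = true := by decide +kernel

theorem pairsTestAt209000 : allFrom pairsTest 209000 1000 = true := by decide +kernel

theorem pairsTestAt210000 : allFrom pairsTest 210000 1000 = true := by decide +kernel

theorem pairsTestAt211000 : allFrom pairsTest 211000 1000 = true := by decide +kernel

theorem pairsTestAt212000 : allFrom pairsTest 212000 1000 = true := by decide +kernel

theorem pairsTestAt213000 : allFrom pairsTest 213000 1000 = true := by decide +kernel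

theorem pairsTestAt214000 : allFrom pairsTest 214000 1000 = true := by decide +kernel

theorem pairsTestAt215000 : allFrom pairsTest 215000 1000 = true := by decide +kernel

theorem pairsTestAt216000 : allFrom pairsTest 216000 1000 = true := by decide +kernel

theorem pairsTestAt217000 : allFrom pairsTest 217000 1000 = true := by decide +kernel

theorem pairsTestAt218000 : allFrom pairsTest 218000 1000 = true := by decide +kernel

theorem pairsTestAt219000 : allFrom pairsTest 219000 1000 = true := by decide +kernel

theorem pairsTestAt220000 : allFrom pairsTest 220000 1000 = true := by decide +kernel

theorem pairsTestAt221000 : allFrom pairsTest 221000 1000 = true := by decide +kernel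

theorem pairsTestAt222000 : allFrom pairsTest 222000 1000 = true := by decide +kernel

theorem pairsTestAt223000 : allFrom pairsTest 223000 1000 = true := by decide +kernel

theorem pairsTestAt224000 : allFrom pairsTest 224000 1000 = true := by decide +kernel

theorem pairsTestAt225000 : allFrom pairsTest 225000 1000 = true := by decide +kernel

theorem pairsTestAt226000 : allFrom pairsTest 226000 1000 = true := by decide +kernel

theorem pairsTestAt227000 : allFrom pairsTest 227000 1000 = true := by decide +kernel

theorem pairsTestAt228000 : allFrom pairsTest 228000 1000 = true := by decide +kernel

theorem pairsTestAt229000 : allFrom pairsTest 229000 1000 = true := by decide +kernel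

theorem pairsTestAt230000 : allFrom pairsTest 230000 1000 = true := by decide +kernel

theorem pairsTestAt231000 : allFrom pairsTest 231000 1000 = true := by decide +kernel

theorem pairsTestAt232000 : allFrom pairsTest 232000 1000 = true := by decide +kernel

theorem pairsTestAt233000 : allFrom pairsTest 233000 1000 = true := by decide +kernel

theorem pairsTestAt234000 : allFrom pairsTest 234000 1000 = true := by decide +kernel

theorem pairsTestAt235000 : allFrom pairsTest 235000 1000 = true := by decide +kernel

theorem pairsTestAt236000 : allFrom pairsTest 236000 1000 = true := by decide +kernel

theorem pairsTestAt237000 : allFrom pairsTest 237000 1000 = true := by decide +kernel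

theorem pairsTestAt238000 : allFrom pairsTest 238000 1000 = true := by decide +kernel

theorem pairsTestAt239000 : allFrom pairsTest 239000 1000 = true := by decide +kernel

theorem pairsTestAt240000 : allFrom pairsTest 240000 1000 = true := by decide +kernel

theorem pairsTestAt241000 : allFrom pairsTest 241000 1000 = true := by decide +kernel

theorem pairsTestAt242000 : allFrom pairsTest 242000 1000 = true := by decide +kernel

theorem pairsTestAt243000 : allFrom pairsTest 243000 1000 = true := by decide +kernel

theorem pairsTestAt244000 : allFrom pairsTest 244000 1000 = true := by decide +kernel

theorem pairsTestAt245000 : allFrom pairsTest 245000 1000 = true := by decide +kernel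

theorem pairsTestAt246000 : allFrom pairsTest 246000 1000 = true := by decide +kernel

theorem pairsTestAt247000 : allFrom pairsTest 247000 1000 = true := by decide +kernel

theorem pairsTestAt248000 : allFrom pairsTest 248000 1000 = true := by decide +kernel

theorem pairsTestAt249000 : allFrom pairsTest 249000 1000 = true := by decide +kernel

theorem pairsTestAt250000 : allFrom pairsTest 250000 1000 = true := by decide +kernel

theorem pairsTestAt251000 : allFrom pairsTest 251000 1000 = true := by decide +kernel

theorem pairsTestAt252000 : allFrom pairsTest 252000 1000 = true := by decide +kernel

theorem pairsTestAt253000 : allFrom pairsTest 253000 1000 = true := by decide +kernel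

theorem pairsTestAt254000 : allFrom pairsTest 254000 1000 = true := by decide +kernel

theorem pairsTestAt255000 : allFrom pairsTest 255000 1000 = true := by decide +kernel

theorem pairsTestAt256000 : allFrom pairsTest 256000 1000 = true := by decide +kernel

theorem pairsTestAt257000 : allFrom pairsTest 257000 1000 = true := by decide +kernel

theorem pairsTestAt258000 : allFrom pairsTest 258000 1000 = true := by decide +kernel

theorem pairsTestAt259000 : allFrom pairsTest 259000 1000 = true := by decide +kernel

end Cfsg.Agent.Fi24Mult.Cov
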