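import Cfsg.Agent.Fi24Mult.Cov.Defs

/-! Generated: kernel checks. -/

set_option Elab.async false
set_option maxRecDepth 100000

namespace Cfsg.Agent.Fi24Mult.Cov

open Cfsg.Agent.CosetCert

theorem pairsTestAt260000 : allFrom pairsTest 260000 1000 = true := by decide +kernel

theorem pairsTestAt261000 : allFrom pairsTest 261000 1000 = true := by decide +kernel

theorem pairsTestAt262000 : allFrom pairsTest 262000 1000 = true := by decide +kernel

theorem pairsTestAt263000 : allFrom pairsTest 263000 1000 = true := by decide +kernel

theorem pairsTestAt264000 : allFrom pairsTest 264000 1000 = true := by decide +kernel

theorem pairsTestAt265000 : allFrom pairsTest 265000 1000 = true := by decide +kernel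

theorem pairsTestAt266000 : allFrom pairsTest 266000 1000 = true := by decide +kernel

theorem pairsTestAt267000 : allFrom pairsTest 267000 1000 = true := by decide +kernel

theorem pairsTestAt268000 : allFrom pairsTest 268000 1000 = true := by decide +kernel

theorem pairsTestAt269000 : allFrom pairsTest 269000 1000 = true := by decide +kernel

theorem pairsTestAt270000 : allFrom pairsTest 270000 1000 = true := by decide +kernel

theorem pairsTestAt271000 : allFrom pairsTest 271000 1000 = true := by decide +kernel

theorem pairsTestAt272000 : allFrom pairsTest 272000 1000 = true := by decide +kernel

theorem pairsTestAt273000 : allFrom pairsTest 273000 1000 = true := by decide +kernel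

theorem pairsTestAt274000 : allFrom pairsTest 274000 1000 = true := by decide +kernel

theorem pairsTestAt275000 : allFrom pairsTest 275000 1000 = true := by decide +kernel

theorem pairsTestAt276000 : allFrom pairsTest 276000 1000 = true := by decide +kernel

theorem pairsTestAt277000 : allFrom pairsTest 277000 1000 = true := by decide +kernel

theorem pairsTestAt278000 : allFrom pairsTest 278000 1000 = true := by decide +kernel

theorem pairsTestAt279000 : allFrom pairsTest 279000 1000 = true := by decide +kernel

theorem pairsTestAt280000 : allFrom pairsTest 280000 1000 = true := by decide +kernel

theorem pairsTestAt281000 : allFrom pairsTest 281000 1000 = true := by decide +kernel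

theorem pairsTestAt282000 : allFrom pairsTest 282000 1000 = true := by decide +kernel

theorem pairsTestAt283000 : allFrom pairsTest 283000 1000 = true := by decide +kernel

theorem pairsTestAt284000 : allFrom pairsTest 284000 1000 = true := by decide +kernel

theorem pairsTestAt285000 : allFrom pairsTest 285000 1000 = true := by decide +kernel

theorem pairsTestAt286000 : allFrom pairsTest 286000 1000 = true := by decide +kernel

theorem pairsTestAt287000 : allFrom pairsTest 287000 1000 = true := by decide +kernel

theorem pairsTestAt288000 : allFrom pairsTest 288000 1000 = true := by decide +kernel

theorem pairsTestAt289000 : allFrom pairsTest 289000 1000 = true := by decide +kernel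

theorem pairsTestAt290000 : allFrom pairsTest 290000 1000 = true := by decide +kernel

theorem pairsTestAt291000 : allFrom pairsTest 291000 1000 = true := by decide +kernel

theorem pairsTestAt292000 : allFrom pairsTest 292000 1000 = true := by decide +kernel

theorem pairsTestAt293000 : allFrom pairsTest 293000 1000 = true := by decide +kernel

theorem pairsTestAt294000 : allFrom pairsTest 294000 1000 = true := by decide +kernel

theorem pairsTestAt295000 : allFrom pairsTest 295000 1000 = true := by decide +kernel

theorem pairsTestAt296000 : allFrom pairsTest 296000 1000 = true := by decide +kernel

theorem pairsTestAt297000 : allFrom pairsTest 297000 1000 = true := by decide +kernel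

theorem pairsTestAt298000 : allFrom pairsTest 298000 1000 = true := by decide +kernel

theorem pairsTestAt299000 : allFrom pairsTest 299000 1000 = true := by decide +kernel

theorem pairsTestAt300000 : allFrom pairsTest 300000 1000 = true := by decide +kernel

theorem pairsTestAt301000 : allFrom pairsTest 301000 1000 = true := by decide +kernel

theorem pairsTestAt302000 : allFrom pairsTest 302000 1000 = true := by decide +kernel

theorem pairsTestAt303000 : allFrom pairsTest 303000 1000 = true := by decide +kernel

theorem pairsTestAt304000 : allFrom pairsTest 304000 1000 = true := by decide +kernel

theorem pairsTestAt305000 : allFrom pairsTest 305000 1000 = true := by decide +kernel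

theorem pairsTestAt306000 : allFrom pairsTest 306000 936 = true := by decide +kernel

end Cfsg.Agent.Fi24Mult.Cov
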