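import Cfsg.Agent.Fi24Mult.Cov.Defs

/-! Generated: kernel checks. -/

set_option Elab.async false
set_option maxRecDepth 100000

namespace Cfsg.Agent.Fi24Mult.Cov

open Cfsg.Agent.CosetCert

theorem pairsTestAt0 : allFrom pairsTest 0 1000 = true := by decide +kernel

theorem pairsTestAt1000 : allFrom pairsTest 1000 1000 = true := by decide +kernel

theorem pairsTestAt2000 : allFrom pairsTest 2000 1000 = true := by decide +kernel

theorem pairsTestAt3000 : allFrom pairsTest 3000 1000 = true := by decide +kernel

theorem pairsTestAt4000 : allFrom pairsTest 4000 1000 = true := by decide +kernel

theorem pairsTestAt5000 : allFrom pairsTest 5000 1000 = true := by decide +kernel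

theorem pairsTestAt6000 : allFrom pairsTest 6000 1000 = true := by decide +kernel

theorem pairsTestAt7000 : allFrom pairsTest 7000 1000 = true := by decide +kernel

theorem pairsTestAt8000 : allFrom pairsTest 8000 1000 = true := by decide +kernel

theorem pairsTestAt9000 : allFrom pairsTest 9000 1000 = true := by decide +kernel

theorem pairsTestAt10000 : allFrom pairsTest 10000 1000 = true := by decide +kernel

theorem pairsTestAt11000 : allFrom pairsTest 11000 1000 = true := by decide +kernel

theorem pairsTestAt12000 : allFrom pairsTest 12000 1000 = true := by decide +kernel

theorem pairsTestAt13000 : allFrom pairsTest 13000 1000 = true := by decide +kernel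

theorem pairsTestAt14000 : allFrom pairsTest 14000 1000 = true := by decide +kernel

theorem pairsTestAt15000 : allFrom pairsTest 15000 1000 = true := by decide +kernel

theorem pairsTestAt16000 : allFrom pairsTest 16000 1000 = true := by decide +kernel

theorem pairsTestAt17000 : allFrom pairsTest 17000 1000 = true := by decide +kernel

theorem pairsTestAt18000 : allFrom pairsTest 18000 1000 = true := by decide +kernel

theorem pairsTestAt19000 : allFrom pairsTest 19000 1000 = true := by decide +kernel

theorem pairsTestAt20000 : allFrom pairsTest 20000 1000 = true := by decide +kernel

theorem pairsTestAt21000 : allFrom pairsTest 21000 1000 = true := by decide +kernel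

theorem pairsTestAt22000 : allFrom pairsTest 22000 1000 = true := by decide +kernel

theorem pairsTestAt23000 : allFrom pairsTest 23000 1000 = true := by decide +kernel

theorem pairsTestAt24000 : allFrom pairsTest 24000 1000 = true := by decide +kernel

theorem pairsTestAt25000 : allFrom pairsTest 25000 1000 = true := by decide +kernel

theorem pairsTestAt26000 : allFrom pairsTest 26000 1000 = true := by decide +kernel

theorem pairsTestAt27000 : allFrom pairsTest 27000 1000 = true := by decide +kernel

theorem pairsTestAt28000 : allFrom pairsTest 28000 1000 = true := by decide +kernel

theorem pairsTestAt29000 : allFrom pairsTest 29000 1000 = true := by decide +kernel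

theorem pairsTestAt30000 : allFrom pairsTest 30000 1000 = true := by decide +kernel

theorem pairsTestAt31000 : allFrom pairsTest 31000 1000 = true := by decide +kernel

theorem pairsTestAt32000 : allFrom pairsTest 32000 1000 = true := by decide +kernel

theorem pairsTestAt33000 : allFrom pairsTest 33000 1000 = true := by decide +kernel

theorem pairsTestAt34000 : allFrom pairsTest 34000 1000 = true := by decide +kernel

theorem pairsTestAt35000 : allFrom pairsTest 35000 1000 = true := by decide +kernel

theorem pairsTestAt36000 : allFrom pairsTest 36000 1000 = true := by decide +kernel

theorem pairsTestAt37000 : allFrom pairsTest 37000 1000 = true := by decide +kernel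

theorem pairsTestAt38000 : allFrom pairsTest 38000 1000 = true := by decide +kernel

theorem pairsTestAt39000 : allFrom pairsTest 39000 1000 = true := by decide +kernel

theorem pairsTestAt40000 : allFrom pairsTest 40000 1000 = true := by decide +kernel

theorem pairsTestAt41000 : allFrom pairsTest 41000 1000 = true := by decide +kernel

theorem pairsTestAt42000 : allFrom pairsTest 42000 1000 = true := by decide +kernel

theorem pairsTestAt43000 : allFrom pairsTest 43000 1000 = true := by decide +kernel

theorem pairsTestAt44000 : allFrom pairsTest 44000 1000 = true := by decide +kernel

theorem pairsTestAt45000 : allFrom pairsTest 45000 1000 = true := by decide +kernel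

theorem pairsTestAt46000 : allFrom pairsTest 46000 1000 = true := by decide +kernel

theorem pairsTestAt47000 : allFrom pairsTest 47000 1000 = true := by decide +kernel

theorem pairsTestAt48000 : allFrom pairsTest 48000 1000 = true := by decide +kernel

theorem pairsTestAt49000 : allFrom pairsTest 49000 1000 = true := by decide +kernel

theorem pairsTestAt50000 : allFrom pairsTest 50000 1000 = true := by decide +kernel

theorem pairsTestAt51000 : allFrom pairsTest 51000 1000 = true := by decide +kernel

end Cfsg.Agent.Fi24Mult.Cov
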