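import Cfsg.Agent.Fi24Mult.Cov.Defs

/-! Generated: kernel checks. -/

set_option Elab.async false
set_option maxRecDepth 100000

namespace Cfsg.Agent.Fi24Mult.Cov

open Cfsg.Agent.CosetCert

theorem spiderTestAt26000 : allFrom spiderTest 26000 1000 = true := by decide +kernel

theorem spiderTestAt27000 : allFrom spiderTest 27000 1000 = true := by decide +kernel

theorem spiderTestAt28000 : allFrom spiderTest 28000 1000 = true := by decide +kernel

theorem spiderTestAt29000 : allFrom spiderTest 29000 1000 = true := by decide +kernel

theorem spiderTestAt30000 : allFrom spiderTest 30000 1000 = true := by decide +kernel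

theorem spiderTestAt31000 : allFrom spiderTest 31000 1000 = true := by decide +kernel

theorem spiderTestAt32000 : allFrom spiderTest 32000 1000 = true := by decide +kernel

theorem spiderTestAt33000 : allFrom spiderTest 33000 1000 = true := by decide +kernel

theorem spiderTestAt34000 : allFrom spiderTest 34000 1000 = true := by decide +kernel

theorem spiderTestAt35000 : allFrom spiderTest 35000 1000 = true := by decide +kernel

theorem spiderTestAt36000 : allFrom spiderTest 36000 1000 = true := by decide +kernel

theorem spiderTestAt37000 : allFrom spiderTest 37000 1000 = true := by decide +kernel

theorem spiderTestAt38000 : allFrom spiderTest 38000 1000 = true := by decide +kernel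

theorem spiderTestAt39000 : allFrom spiderTest 39000 1000 = true := by decide +kernel

theorem spiderTestAt40000 : allFrom spiderTest 40000 1000 = true := by decide +kernel

theorem spiderTestAt41000 : allFrom spiderTest 41000 1000 = true := by decide +kernel

theorem spiderTestAt42000 : allFrom spiderTest 42000 1000 = true := by decide +kernel

theorem spiderTestAt43000 : allFrom spiderTest 43000 1000 = true := by decide +kernel

theorem spiderTestAt44000 : allFrom spiderTest 44000 1000 = true := by decide +kernel

theorem spiderTestAt45000 : allFrom spiderTest 45000 1000 = true := by decide +kernel

theorem spiderTestAt46000 : allFrom spiderTest 46000 1000 = true := by decide +kernel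

theorem spiderTestAt47000 : allFrom spiderTest 47000 1000 = true := by decide +kernel

theorem spiderTestAt48000 : allFrom spiderTest 48000 1000 = true := by decide +kernel

theorem spiderTestAt49000 : allFrom spiderTest 49000 1000 = true := by decide +kernel

theorem spiderTestAt50000 : allFrom spiderTest 50000 1000 = true := by decide +kernel

theorem spiderTestAt51000 : allFrom spiderTest 51000 1000 = true := by decide +kernel

end Cfsg.Agent.Fi24Mult.Cov
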