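import Cfsg.Agent.Fi24Mult.Cov.Defs

/-! Generated: kernel checks. -/

set_option Elab.async false
set_option maxRecDepth 100000

namespace Cfsg.Agent.Fi24Mult.Cov

open Cfsg.Agent.CosetCert

theorem spiderTestAt260000 : allFrom spiderTest 260000 1000 = true := by decide +kernel

theorem spiderTestAt261000 : allFrom spiderTest 261000 1000 = true := by decide +kernel

theorem spiderTestAt262000 : allFrom spiderTest 262000 1000 = true := by decide +kernel

theorem spiderTestAt263000 : allFrom spiderTest 263000 1000 = true := by decide +kernel

theorem spiderTestAt264000 : allFrom spiderTest 264000 1000 = true := by decide +kernel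

theorem spiderTestAt265000 : allFrom spiderTest 265000 1000 = true := by decide +kernel

theorem spiderTestAt266000 : allFrom spiderTest 266000 1000 = true := by decide +kernel

theorem spiderTestAt267000 : allFrom spiderTest 267000 1000 = true := by decide +kernel

theorem spiderTestAt268000 : allFrom spiderTest 268000 1000 = true := by decide +kernel

theorem spiderTestAt269000 : allFrom spiderTest 269000 1000 = true := by decide +kernel

theorem spiderTestAt270000 : allFrom spiderTest 270000 1000 = true := by decide +kernel

theorem spiderTestAt271000 : allFrom spiderTest 271000 1000 = true := by decide +kernel

theorem spiderTestAt272000 : allFrom spiderTest 272000 1000 = true := by decide +kernel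

theorem spiderTestAt273000 : allFrom spiderTest 273000 1000 = true := by decide +kernel

theorem spiderTestAt274000 : allFrom spiderTest 274000 1000 = true := by decide +kernel

theorem spiderTestAt275000 : allFrom spiderTest 275000 1000 = true := by decide +kernel

theorem spiderTestAt276000 : allFrom spiderTest 276000 1000 = true := by decide +kernel

theorem spiderTestAt277000 : allFrom spiderTest 277000 1000 = true := by decide +kernel

theorem spiderTestAt278000 : allFrom spiderTest 278000 1000 = true := by decide +kernel

theorem spiderTestAt279000 : allFrom spiderTest 279000 1000 = true := by decide +kernel

theorem spiderTestAt280000 : allFrom spiderTest 280000 1000 = true := by decide +kernel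

theorem spiderTestAt281000 : allFrom spiderTest 281000 1000 = true := by decide +kernel

theorem spiderTestAt282000 : allFrom spiderTest 282000 1000 = true := by decide +kernel

theorem spiderTestAt283000 : allFrom spiderTest 283000 1000 = true := by decide +kernel

theorem spiderTestAt284000 : allFrom spiderTest 284000 1000 = true := by decide +kernel

theorem spiderTestAt285000 : allFrom spiderTest 285000 1000 = true := by decide +kernel

end Cfsg.Agent.Fi24Mult.Cov
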