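import Cfsg.Agent.Fi24Mult.Cov.Defs

/-! Generated: kernel checks. -/

set_option Elab.async false
set_option maxRecDepth 100000

namespace Cfsg.Agent.Fi24Mult.Cov

open Cfsg.Agent.CosetCert

theorem spiderTestAt286000 : allFrom spiderTest 286000 1000 = true := by decide +kernel

theorem spiderTestAt287000 : allFrom spiderTest 287000 1000 = true := by decide +kernel

theorem spiderTestAt288000 : allFrom spiderTest 288000 1000 = true := by decide +kernel

theorem spiderTestAt289000 : allFrom spiderTest 289000 1000 = true := by decide +kernel

theorem spiderTestAt290000 : allFrom spiderTest 290000 1000 = true := by decide +kernel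

theorem spiderTestAt291000 : allFrom spiderTest 291000 1000 = true := by decide +kernel

theorem spiderTestAt292000 : allFrom spiderTest 292000 1000 = true := by decide +kernel

theorem spiderTestAt293000 : allFrom spiderTest 293000 1000 = true := by decide +kernel

theorem spiderTestAt294000 : allFrom spiderTest 294000 1000 = true := by decide +kernel

theorem spiderTestAt295000 : allFrom spiderTest 295000 1000 = true := by decide +kernel

theorem spiderTestAt296000 : allFrom spiderTest 296000 1000 = true := by decide +kernel

theorem spiderTestAt297000 : allFrom spiderTest 297000 1000 = true := by decide +kernel

theorem spiderTestAt298000 : allFrom spiderTest 298000 1000 = true := by decide +kernel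

theorem spiderTestAt299000 : allFrom spiderTest 299000 1000 = true := by decide +kernel

theorem spiderTestAt300000 : allFrom spiderTest 300000 1000 = true := by decide +kernel

theorem spiderTestAt301000 : allFrom spiderTest 301000 1000 = true := by decide +kernel

theorem spiderTestAt302000 : allFrom spiderTest 302000 1000 = true := by decide +kernel

theorem spiderTestAt303000 : allFrom spiderTest 303000 1000 = true := by decide +kernel

theorem spiderTestAt304000 : allFrom spiderTest 304000 1000 = true := by decide +kernel

theorem spiderTestAt305000 : allFrom spiderTest 305000 1000 = true := by decide +kernel

theorem spiderTestAt306000 : allFrom spiderTest 306000 936 = true := by decide +kernel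

end Cfsg.Agent.Fi24Mult.Cov
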