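import Cfsg.Agent.Fi24Mult.Cov.Defs

/-! Generated: kernel checks. -/

set_option Elab.async false
set_option maxRecDepth 100000

namespace Cfsg.Agent.Fi24Mult.Cov

open Cfsg.Agent.CosetCert

theorem spiderTestAt52000 : allFrom spiderTest 52000 1000 = true := by decide +kernel

theorem spiderTestAt53000 : allFrom spiderTest 53000 1000 = true := by decide +kernel

theorem spiderTestAt54000 : allFrom spiderTest 54000 1000 = true := by decide +kernel

theorem spiderTestAt55000 : allFrom spiderTest 55000 1000 = true := by decide +kernel

theorem spiderTestAt56000 : allFrom spiderTest 56000 1000 = true := by decide +kernel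

theorem spiderTestAt57000 : allFrom spiderTest 57000 1000 = true := by decide +kernel

theorem spiderTestAt58000 : allFrom spiderTest 58000 1000 = true := by decide +kernel

theorem spiderTestAt59000 : allFrom spiderTest 59000 1000 = true := by decide +kernel

theorem spiderTestAt60000 : allFrom spiderTest 60000 1000 = true := by decide +kernel

theorem spiderTestAt61000 : allFrom spiderTest 61000 1000 = true := by decide +kernel

theorem spiderTestAt62000 : allFrom spiderTest 62000 1000 = true := by decide +kernel

theorem spiderTestAt63000 : allFrom spiderTest 63000 1000 = true := by decide +kernel

theorem spiderTestAt64000 : allFrom spiderTest 64000 1000 = true := by decide +kernel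

theorem spiderTestAt65000 : allFrom spiderTest 65000 1000 = true := by decide +kernel

theorem spiderTestAt66000 : allFrom spiderTest 66000 1000 = true := by decide +kernel

theorem spiderTestAt67000 : allFrom spiderTest 67000 1000 = true := by decide +kernel

theorem spiderTestAt68000 : allFrom spiderTest 68000 1000 = true := by decide +kernel

theorem spiderTestAt69000 : allFrom spiderTest 69000 1000 = true := by decide +kernel

theorem spiderTestAt70000 : allFrom spiderTest 70000 1000 = true := by decide +kernel

theorem spiderTestAt71000 : allFrom spiderTest 71000 1000 = true := by decide +kernel

theorem spiderTestAt72000 : allFrom spiderTest 72000 1000 = true := by decide +kernel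

theorem spiderTestAt73000 : allFrom spiderTest 73000 1000 = true := by decide +kernel

theorem spiderTestAt74000 : allFrom spiderTest 74000 1000 = true := by decide +kernel

theorem spiderTestAt75000 : allFrom spiderTest 75000 1000 = true := by decide +kernel

theorem spiderTestAt76000 : allFrom spiderTest 76000 1000 = true := by decide +kernel

theorem spiderTestAt77000 : allFrom spiderTest 77000 1000 = true := by decide +kernel

end Cfsg.Agent.Fi24Mult.Cov
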