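import Cfsg.Agent.Fi24Mult.Cov.Defs

/-! Generated: kernel checks. -/

set_option Elab.async false
set_option maxRecDepth 100000

namespace Cfsg.Agent.Fi24Mult.Cov

open Cfsg.Agent.CosetCert

theorem spiderTestAt78000 : allFrom spiderTest 78000 1000 = true := by decide +kernel

theorem spiderTestAt79000 : allFrom spiderTest 79000 1000 = true := by decide +kernel

theorem spiderTestAt80000 : allFrom spiderTest 80000 1000 = true := by decide +kernel

theorem spiderTestAt81000 : allFrom spiderTest 81000 1000 = true := by decide +kernel

theorem spiderTestAt82000 : allFrom spiderTest 82000 1000 = true := by decide +kernel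

theorem spiderTestAt83000 : allFrom spiderTest 83000 1000 = true := by decide +kernel

theorem spiderTestAt84000 : allFrom spiderTest 84000 1000 = true := by decide +kernel

theorem spiderTestAt85000 : allFrom spiderTest 85000 1000 = true := by decide +kernel

theorem spiderTestAt86000 : allFrom spiderTest 86000 1000 = true := by decide +kernel

theorem spiderTestAt87000 : allFrom spiderTest 87000 1000 = true := by decide +kernel

theorem spiderTestAt88000 : allFrom spiderTest 88000 1000 = true := by decide +kernel

theorem spiderTestAt89000 : allFrom spiderTest 89000 1000 = true := by decide +kernel

theorem spiderTestAt90000 : allFrom spiderTest 90000 1000 = true := by decide +kernel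

theorem spiderTestAt91000 : allFrom spiderTest 91000 1000 = true := by decide +kernel

theorem spiderTestAt92000 : allFrom spiderTest 92000 1000 = true := by decide +kernel

theorem spiderTestAt93000 : allFrom spiderTest 93000 1000 = true := by decide +kernel

theorem spiderTestAt94000 : allFrom spiderTest 94000 1000 = true := by decide +kernel

theorem spiderTestAt95000 : allFrom spiderTest 95000 1000 = true := by decide +kernel

theorem spiderTestAt96000 : allFrom spiderTest 96000 1000 = true := by decide +kernel

theorem spiderTestAt97000 : allFrom spiderTest 97000 1000 = true := by decide +kernel

theorem spiderTestAt98000 : allFrom spiderTest 98000 1000 = true := by decide +kernel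

theorem spiderTestAt99000 : allFrom spiderTest 99000 1000 = true := by decide +kernel

theorem spiderTestAt100000 : allFrom spiderTest 100000 1000 = true := by decide +kernel

theorem spiderTestAt101000 : allFrom spiderTest 101000 1000 = true := by decide +kernel

theorem spiderTestAt102000 : allFrom spiderTest 102000 1000 = true := by decide +kernel

theorem spiderTestAt103000 : allFrom spiderTest 103000 1000 = true := by decide +kernel

end Cfsg.Agent.Fi24Mult.Cov
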