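import Cfsg.Agent.Fi24Mult.Cov.Defs

/-! Generated: kernel checks. -/

set_option Elab.async false
set_option maxRecDepth 100000

namespace Cfsg.Agent.Fi24Mult.Cov

open Cfsg.Agent.CosetCert

theorem spiderTestAt104000 : allFrom spiderTest 104000 1000 = true := by decide +kernel

theorem spiderTestAt105000 : allFrom spiderTest 105000 1000 = true := by decide +kernel

theorem spiderTestAt106000 : allFrom spiderTest 106000 1000 = true := by decide +kernel

theorem spiderTestAt107000 : allFrom spiderTest 107000 1000 = true := by decide +kernel

theorem spiderTestAt108000 : allFrom spiderTest 108000 1000 = true := by decide +kernel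

theorem spiderTestAt109000 : allFrom spiderTest 109000 1000 = true := by decide +kernel

theorem spiderTestAt110000 : allFrom spiderTest 110000 1000 = true := by decide +kernel

theorem spiderTestAt111000 : allFrom spiderTest 111000 1000 = true := by decide +kernel

theorem spiderTestAt112000 : allFrom spiderTest 112000 1000 = true := by decide +kernel

theorem spiderTestAt113000 : allFrom spiderTest 113000 1000 = true := by decide +kernel

theorem spiderTestAt114000 : allFrom spiderTest 114000 1000 = true := by decide +kernel

theorem spiderTestAt115000 : allFrom spiderTest 115000 1000 = true := by decide +kernel

theorem spiderTestAt116000 : allFrom spiderTest 116000 1000 = true := by decide +kernel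

theorem spiderTestAt117000 : allFrom spiderTest 117000 1000 = true := by decide +kernel

theorem spiderTestAt118000 : allFrom spiderTest 118000 1000 = true := by decide +kernel

theorem spiderTestAt119000 : allFrom spiderTest 119000 1000 = true := by decide +kernel

theorem spiderTestAt120000 : allFrom spiderTest 120000 1000 = true := by decide +kernel

theorem spiderTestAt121000 : allFrom spiderTest 121000 1000 = true := by decide +kernel

theorem spiderTestAt122000 : allFrom spiderTest 122000 1000 = true := by decide +kernel

theorem spiderTestAt123000 : allFrom spiderTest 123000 1000 = true := by decide +kernel

theorem spiderTestAt124000 : allFrom spiderTest 124000 1000 = true := by decide +kernel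

theorem spiderTestAt125000 : allFrom spiderTest 125000 1000 = true := by decide +kernel

theorem spiderTestAt126000 : allFrom spiderTest 126000 1000 = true := by decide +kernel

theorem spiderTestAt127000 : allFrom spiderTest 127000 1000 = true := by decide +kernel

theorem spiderTestAt128000 : allFrom spiderTest 128000 1000 = true := by decide +kernel

theorem spiderTestAt129000 : allFrom spiderTest 129000 1000 = true := by decide +kernel

end Cfsg.Agent.Fi24Mult.Cov
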