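import Cfsg.Agent.Fi24Mult.Cov.Defs

/-! Generated: kernel checks. -/

set_option Elab.async false
set_option maxRecDepth 100000

namespace Cfsg.Agent.Fi24Mult.Cov

open Cfsg.Agent.CosetCert

theorem spiderTestAt130000 : allFrom spiderTest 130000 1000 = true := by decide +kernel

theorem spiderTestAt131000 : allFrom spiderTest 131000 1000 = true := by decide +kernel

theorem spiderTestAt132000 : allFrom spiderTest 132000 1000 = true := by decide +kernel

theorem spiderTestAt133000 : allFrom spiderTest 133000 1000 = true := by decide +kernel

theorem spiderTestAt134000 : allFrom spiderTest 134000 1000 = true := by decide +kernel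

theorem spiderTestAt135000 : allFrom spiderTest 135000 1000 = true := by decide +kernel

theorem spiderTestAt136000 : allFrom spiderTest 136000 1000 = true := by decide +kernel

theorem spiderTestAt137000 : allFrom spiderTest 137000 1000 = true := by decide +kernel

theorem spiderTestAt138000 : allFrom spiderTest 138000 1000 = true := by decide +kernel

theorem spiderTestAt139000 : allFrom spiderTest 139000 1000 = true := by decide +kernel

theorem spiderTestAt140000 : allFrom spiderTest 140000 1000 = true := by decide +kernel

theorem spiderTestAt141000 : allFrom spiderTest 141000 1000 = true := by decide +kernel

theorem spiderTestAt142000 : allFrom spiderTest 142000 1000 = true := by decide +kernel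

theorem spiderTestAt143000 : allFrom spiderTest 143000 1000 = true := by decide +kernel

theorem spiderTestAt144000 : allFrom spiderTest 144000 1000 = true := by decide +kernel

theorem spiderTestAt145000 : allFrom spiderTest 145000 1000 = true := by decide +kernel

theorem spiderTestAt146000 : allFrom spiderTest 146000 1000 = true := by decide +kernel

theorem spiderTestAt147000 : allFrom spiderTest 147000 1000 = true := by decide +kernel

theorem spiderTestAt148000 : allFrom spiderTest 148000 1000 = true := by decide +kernel

theorem spiderTestAt149000 : allFrom spiderTest 149000 1000 = true := by decide +kernel

theorem spiderTestAt150000 : allFrom spiderTest 150000 1000 = true := by decide +kernel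

theorem spiderTestAt151000 : allFrom spiderTest 151000 1000 = true := by decide +kernel

theorem spiderTestAt152000 : allFrom spiderTest 152000 1000 = true := by decide +kernel

theorem spiderTestAt153000 : allFrom spiderTest 153000 1000 = true := by decide +kernel

theorem spiderTestAt154000 : allFrom spiderTest 154000 1000 = true := by decide +kernel

theorem spiderTestAt155000 : allFrom spiderTest 155000 1000 = true := by decide +kernel

end Cfsg.Agent.Fi24Mult.Cov
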