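import Cfsg.Agent.Fi24Mult.Cov.Defs

/-! Generated: kernel checks. -/

set_option Elab.async false
set_option maxRecDepth 100000

namespace Cfsg.Agent.Fi24Mult.Cov

open Cfsg.Agent.CosetCert

theorem spiderTestAt156000 : allFrom spiderTest 156000 1000 = true := by decide +kernel

theorem spiderTestAt157000 : allFrom spiderTest 157000 1000 = true := by decide +kernel

theorem spiderTestAt158000 : allFrom spiderTest 158000 1000 = true := by decide +kernel

theorem spiderTestAt159000 : allFrom spiderTest 159000 1000 = true := by decide +kernel

theorem spiderTestAt160000 : allFrom spiderTest 160000 1000 = true := by decide +kernel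

theorem spiderTestAt161000 : allFrom spiderTest 161000 1000 = true := by decide +kernel

theorem spiderTestAt162000 : allFrom spiderTest 162000 1000 = true := by decide +kernel

theorem spiderTestAt163000 : allFrom spiderTest 163000 1000 = true := by decide +kernel

theorem spiderTestAt164000 : allFrom spiderTest 164000 1000 = true := by decide +kernel

theorem spiderTestAt165000 : allFrom spiderTest 165000 1000 = true := by decide +kernel

theorem spiderTestAt166000 : allFrom spiderTest 166000 1000 = true := by decide +kernel

theorem spiderTestAt167000 : allFrom spiderTest 167000 1000 = true := by decide +kernel

theorem spiderTestAt168000 : allFrom spiderTest 168000 1000 = true := by decide +kernel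

theorem spiderTestAt169000 : allFrom spiderTest 169000 1000 = true := by decide +kernel

theorem spiderTestAt170000 : allFrom spiderTest 170000 1000 = true := by decide +kernel

theorem spiderTestAt171000 : allFrom spiderTest 171000 1000 = true := by decide +kernel

theorem spiderTestAt172000 : allFrom spiderTest 172000 1000 = true := by decide +kernel

theorem spiderTestAt173000 : allFrom spiderTest 173000 1000 = true := by decide +kernel

theorem spiderTestAt174000 : allFrom spiderTest 174000 1000 = true := by decide +kernel

theorem spiderTestAt175000 : allFrom spiderTest 175000 1000 = true := by decide +kernel

theorem spiderTestAt176000 : allFrom spiderTest 176000 1000 = true := by decide +kernel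

theorem spiderTestAt177000 : allFrom spiderTest 177000 1000 = true := by decide +kernel

theorem spiderTestAt178000 : allFrom spiderTest 178000 1000 = true := by decide +kernel

theorem spiderTestAt179000 : allFrom spiderTest 179000 1000 = true := by decide +kernel

theorem spiderTestAt180000 : allFrom spiderTest 180000 1000 = true := by decide +kernel

theorem spiderTestAt181000 : allFrom spiderTest 181000 1000 = true := by decide +kernel

end Cfsg.Agent.Fi24Mult.Cov
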