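import Cfsg.Agent.Fi24Mult.Cov.Defs

/-! Generated: kernel checks. -/

set_option Elab.async false
set_option maxRecDepth 100000

namespace Cfsg.Agent.Fi24Mult.Cov

open Cfsg.Agent.CosetCert

theorem spiderTestAt182000 : allFrom spiderTest 182000 1000 = true := by decide +kernel

theorem spiderTestAt183000 : allFrom spiderTest 183000 1000 = true := by decide +kernel

theorem spiderTestAt184000 : allFrom spiderTest 184000 1000 = true := by decide +kernel

theorem spiderTestAt185000 : allFrom spiderTest 185000 1000 = true := by decide +kernel

theorem spiderTestAt186000 : allFrom spiderTest 186000 1000 = true := by decide +kernel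

theorem spiderTestAt187000 : allFrom spiderTest 187000 1000 = true := by decide +kernel

theorem spiderTestAt188000 : allFrom spiderTest 188000 1000 = true := by decide +kernel

theorem spiderTestAt189000 : allFrom spiderTest 189000 1000 = true := by decide +kernel

theorem spiderTestAt190000 : allFrom spiderTest 190000 1000 = true := by decide +kernel

theorem spiderTestAt191000 : allFrom spiderTest 191000 1000 = true := by decide +kernel

theorem spiderTestAt192000 : allFrom spiderTest 192000 1000 = true := by decide +kernel

theorem spiderTestAt193000 : allFrom spiderTest 193000 1000 = true := by decide +kernel

theorem spiderTestAt194000 : allFrom spiderTest 194000 1000 = true := by decide +kernel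

theorem spiderTestAt195000 : allFrom spiderTest 195000 1000 = true := by decide +kernel

theorem spiderTestAt196000 : allFrom spiderTest 196000 1000 = true := by decide +kernel

theorem spiderTestAt197000 : allFrom spiderTest 197000 1000 = true := by decide +kernel

theorem spiderTestAt198000 : allFrom spiderTest 198000 1000 = true := by decide +kernel

theorem spiderTestAt199000 : allFrom spiderTest 199000 1000 = true := by decide +kernel

theorem spiderTestAt200000 : allFrom spiderTest 200000 1000 = true := by decide +kernel

theorem spiderTestAt201000 : allFrom spiderTest 201000 1000 = true := by decide +kernel

theorem spiderTestAt202000 : allFrom spiderTest 202000 1000 = true := by decide +kernel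

theorem spiderTestAt203000 : allFrom spiderTest 203000 1000 = true := by decide +kernel

theorem spiderTestAt204000 : allFrom spiderTest 204000 1000 = true := by decide +kernel

theorem spiderTestAt205000 : allFrom spiderTest 205000 1000 = true := by decide +kernel

theorem spiderTestAt206000 : allFrom spiderTest 206000 1000 = true := by decide +kernel

theorem spiderTestAt207000 : allFrom spiderTest 207000 1000 = true := by decide +kernel

end Cfsg.Agent.Fi24Mult.Cov
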