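import Cfsg.Agent.Fi24Mult.Cov.Defs

/-! Generated: kernel checks. -/

set_option Elab.async false
set_option maxRecDepth 100000

namespace Cfsg.Agent.Fi24Mult.Cov

open Cfsg.Agent.CosetCert

theorem spiderTestAt208000 : allFrom spiderTest 208000 1000 = true := by decide +kernel

theorem spiderTestAt209000 : allFrom spiderTest 209000 1000 = true := by decide +kernel

theorem spiderTestAt210000 : allFrom spiderTest 210000 1000 = true := by decide +kernel

theorem spiderTestAt211000 : allFrom spiderTest 211000 1000 = true := by decide +kernel

theorem spiderTestAt212000 : allFrom spiderTest 212000 1000 = true := by decide +kernel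

theorem spiderTestAt213000 : allFrom spiderTest 213000 1000 = true := by decide +kernel

theorem spiderTestAt214000 : allFrom spiderTest 214000 1000 = true := by decide +kernel

theorem spiderTestAt215000 : allFrom spiderTest 215000 1000 = true := by decide +kernel

theorem spiderTestAt216000 : allFrom spiderTest 216000 1000 = true := by decide +kernel

theorem spiderTestAt217000 : allFrom spiderTest 217000 1000 = true := by decide +kernel

theorem spiderTestAt218000 : allFrom spiderTest 218000 1000 = true := by decide +kernel

theorem spiderTestAt219000 : allFrom spiderTest 219000 1000 = true := by decide +kernel

theorem spiderTestAt220000 : allFrom spiderTest 220000 1000 = true := by decide +kernel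

theorem spiderTestAt221000 : allFrom spiderTest 221000 1000 = true := by decide +kernel

theorem spiderTestAt222000 : allFrom spiderTest 222000 1000 = true := by decide +kernel

theorem spiderTestAt223000 : allFrom spiderTest 223000 1000 = true := by decide +kernel

theorem spiderTestAt224000 : allFrom spiderTest 224000 1000 = true := by decide +kernel

theorem spiderTestAt225000 : allFrom spiderTest 225000 1000 = true := by decide +kernel

theorem spiderTestAt226000 : allFrom spiderTest 226000 1000 = true := by decide +kernel

theorem spiderTestAt227000 : allFrom spiderTest 227000 1000 = true := by decide +kernel

theorem spiderTestAt228000 : allFrom spiderTest 228000 1000 = true := by decide +kernel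

theorem spiderTestAt229000 : allFrom spiderTest 229000 1000 = true := by decide +kernel

theorem spiderTestAt230000 : allFrom spiderTest 230000 1000 = true := by decide +kernel

theorem spiderTestAt231000 : allFrom spiderTest 231000 1000 = true := by decide +kernel

theorem spiderTestAt232000 : allFrom spiderTest 232000 1000 = true := by decide +kernel

theorem spiderTestAt233000 : allFrom spiderTest 233000 1000 = true := by decide +kernel

end Cfsg.Agent.Fi24Mult.Cov
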