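import Cfsg.Agent.Fi24Mult.Cov.Defs

/-! Generated: kernel checks. -/

set_option Elab.async false
set_option maxRecDepth 100000

namespace Cfsg.Agent.Fi24Mult.Cov

open Cfsg.Agent.CosetCert

theorem spiderTestAt234000 : allFrom spiderTest 234000 1000 = true := by decide +kernel

theorem spiderTestAt235000 : allFrom spiderTest 235000 1000 = true := by decide +kernel

theorem spiderTestAt236000 : allFrom spiderTest 236000 1000 = true := by decide +kernel

theorem spiderTestAt237000 : allFrom spiderTest 237000 1000 = true := by decide +kernel

theorem spiderTestAt238000 : allFrom spiderTest 238000 1000 = true := by decide +kernel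

theorem spiderTestAt239000 : allFrom spiderTest 239000 1000 = true := by decide +kernel

theorem spiderTestAt240000 : allFrom spiderTest 240000 1000 = true := by decide +kernel

theorem spiderTestAt241000 : allFrom spiderTest 241000 1000 = true := by decide +kernel

theorem spiderTestAt242000 : allFrom spiderTest 242000 1000 = true := by decide +kernel

theorem spiderTestAt243000 : allFrom spiderTest 243000 1000 = true := by decide +kernel

theorem spiderTestAt244000 : allFrom spiderTest 244000 1000 = true := by decide +kernel

theorem spiderTestAt245000 : allFrom spiderTest 245000 1000 = true := by decide +kernel

theorem spiderTestAt246000 : allFrom spiderTest 246000 1000 = true := by decide +kernel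

theorem spiderTestAt247000 : allFrom spiderTest 247000 1000 = true := by decide +kernel

theorem spiderTestAt248000 : allFrom spiderTest 248000 1000 = true := by decide +kernel

theorem spiderTestAt249000 : allFrom spiderTest 249000 1000 = true := by decide +kernel

theorem spiderTestAt250000 : allFrom spiderTest 250000 1000 = true := by decide +kernel

theorem spiderTestAt251000 : allFrom spiderTest 251000 1000 = true := by decide +kernel

theorem spiderTestAt252000 : allFrom spiderTest 252000 1000 = true := by decide +kernel

theorem spiderTestAt253000 : allFrom spiderTest 253000 1000 = true := by decide +kernel

theorem spiderTestAt254000 : allFrom spiderTest 254000 1000 = true := by decide +kernel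

theorem spiderTestAt255000 : allFrom spiderTest 255000 1000 = true := by decide +kernel

theorem spiderTestAt256000 : allFrom spiderTest 256000 1000 = true := by decide +kernel

theorem spiderTestAt257000 : allFrom spiderTest 257000 1000 = true := by decide +kernel

theorem spiderTestAt258000 : allFrom spiderTest 258000 1000 = true := by decide +kernel

theorem spiderTestAt259000 : allFrom spiderTest 259000 1000 = true := by decide +kernel

end Cfsg.Agent.Fi24Mult.Cov
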