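import Cfsg.Agent.Fi24Mult.Cov.CheckSpider0
import Cfsg.Agent.Fi24Mult.Cov.CheckSpider1
import Cfsg.Agent.Fi24Mult.Cov.CheckSpider2
import Cfsg.Agent.Fi24Mult.Cov.CheckSpider3
import Cfsg.Agent.Fi24Mult.Cov.CheckSpider4
import Cfsg.Agent.Fi24Mult.Cov.CheckSpider5
import Cfsg.Agent.Fi24Mult.Cov.CheckSpider6
import Cfsg.Agent.Fi24Mult.Cov.CheckSpider7
import Cfsg.Agent.Fi24Mult.Cov.CheckSpider8
import Cfsg.Agent.Fi24Mult.Cov.CheckSpider9
import Cfsg.Agent.Fi24Mult.Cov.CheckSpider10
import Cfsg.Agent.Fi24Mult.Cov.CheckSpider11

/-! Generated: kernel checks. -/

set_option Elab.async false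
set_option maxRecDepth 100000

namespace Cfsg.Agent.Fi24Mult.Cov

open Cfsg.Agent.CosetCert

theorem spiderTest_ok : ∀ c, c < 306936 → spiderTest c = true := by
  have h0 : ∀ i, i < 0 → spiderTest i = true := forall_lt_zero
  have h1 := forall_lt_step (b := 1000) h0 spiderTestAt0 rfl
  have h2 := forall_lt_step (b := 2000) h1 spiderTestAt1000 rfl
  have h3 := forall_lt_step (b := 3000) h2 spiderTestAt2000 rfl
  have h4 := forall_lt_step (b := 4000) h3 spiderTestAt3000 rfl
  have h5 := forall_lt_step (b := 5000) h4 spiderTestAt4000 rfl
  have h6 := forall_lt_step (b := 6000) h5 spiderTestAt5000 rfl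
  have h7 := forall_lt_step (b := 7000) h6 spiderTestAt6000 rfl
  have h8 := forall_lt_step (b := 8000) h7 spiderTestAt7000 rfl
  have h9 := forall_lt_step (b := 9000) h8 spiderTestAt8000 rfl
  have h10 := forall_lt_step (b := 10000) h9 spiderTestAt9000 rfl
  have h11 := forall_lt_step (b := 11000) h10 spiderTestAt10000 rfl
  have h12 := forall_lt_step (b := 12000) h11 spiderTestAt11000 rfl
  have h13 := forall_lt_step (b := 13000) h12 spiderTestAt12000 rfl
  have h14 := forall_lt_step (b := 14000) h13 spiderTestAt13000 rfl
  have h15 := forall_lt_step (b := 15000) h14 spiderTestAt14000 rfl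
  have h16 := forall_lt_step (b := 16000) h15 spiderTestAt15000 rfl
  have h17 := forall_lt_step (b := 17000) h16 spiderTestAt16000 rfl
  have h18 := forall_lt_step (b := 18000) h17 spiderTestAt17000 rfl
  have h19 := forall_lt_step (b := 19000) h18 spiderTestAt18000 rfl
  have h20 := forall_lt_step (b := 20000) h19 spiderTestAt19000 rfl
  have h21 := forall_lt_step (b := 21000) h20 spiderTestAt20000 rfl
  have h22 := forall_lt_step (b := 22000) h21 spiderTestAt21000 rfl
  have h23 := forall_lt_step (b := 23000) h22 spiderTestAt22000 rfl
  have h24 := forall_lt_step (b := 24000) h23 spiderTestAt23000 rfl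
  have h25 := forall_lt_step (b := 25000) h24 spiderTestAt24000 rfl
  have h26 := forall_lt_step (b := 26000) h25 spiderTestAt25000 rfl
  have h27 := forall_lt_step (b := 27000) h26 spiderTestAt26000 rfl
  have h28 := forall_lt_step (b := 28000) h27 spiderTestAt27000 rfl
  have h29 := forall_lt_step (b := 29000) h28 spiderTestAt28000 rfl
  have h30 := forall_lt_step (b := 30000) h29 spiderTestAt29000 rfl
  have h31 := forall_lt_step (b := 31000) h30 spiderTestAt30000 rfl
  have h32 := forall_lt_step (b := 32000) h31 spiderTestAt31000 rfl
  have h33 := forall_lt_step (b := 33000) h32 spiderTestAt32000 rfl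
  have h34 := forall_lt_step (b := 34000) h33 spiderTestAt33000 rfl
  have h35 := forall_lt_step (b := 35000) h34 spiderTestAt34000 rfl
  have h36 := forall_lt_step (b := 36000) h35 spiderTestAt35000 rfl
  have h37 := forall_lt_step (b := 37000) h36 spiderTestAt36000 rfl
  have h38 := forall_lt_step (b := 38000) h37 spiderTestAt37000 rfl
  have h39 := forall_lt_step (b := 39000) h38 spiderTestAt38000 rfl
  have h40 := forall_lt_step (b := 40000) h39 spiderTestAt39000 rfl
  have h41 := forall_lt_step (b := 41000) h40 spiderTestAt40000 rfl
  have h42 := forall_lt_step (b := 42000) h41 spiderTestAt41000 rfl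
  have h43 := forall_lt_step (b := 43000) h42 spiderTestAt42000 rfl
  have h44 := forall_lt_step (b := 44000) h43 spiderTestAt43000 rfl
  have h45 := forall_lt_step (b := 45000) h44 spiderTestAt44000 rfl
  have h46 := forall_lt_step (b := 46000) h45 spiderTestAt45000 rfl
  have h47 := forall_lt_step (b := 47000) h46 spiderTestAt46000 rfl
  have h48 := forall_lt_step (b := 48000) h47 spiderTestAt47000 rfl
  have h49 := forall_lt_step (b := 49000) h48 spiderTestAt48000 rfl
  have h50 := forall_lt_step (b := 50000) h49 spiderTestAt49000 rfl
  have h51 := forall_lt_step (b := 51000) h50 spiderTestAt50000 rfl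
  have h52 := forall_lt_step (b := 52000) h51 spiderTestAt51000 rfl
  have h53 := forall_lt_step (b := 53000) h52 spiderTestAt52000 rfl
  have h54 := forall_lt_step (b := 54000) h53 spiderTestAt53000 rfl
  have h55 := forall_lt_step (b := 55000) h54 spiderTestAt54000 rfl
  have h56 := forall_lt_step (b := 56000) h55 spiderTestAt55000 rfl
  have h57 := forall_lt_step (b := 57000) h56 spiderTestAt56000 rfl
  have h58 := forall_lt_step (b := 58000) h57 spiderTestAt57000 rfl
  have h59 := forall_lt_step (b := 59000) h58 spiderTestAt58000 rfl
  have h60 := forall_lt_step (b := 60000) h59 spiderTestAt59000 rfl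
  have h61 := forall_lt_step (b := 61000) h60 spiderTestAt60000 rfl
  have h62 := forall_lt_step (b := 62000) h61 spiderTestAt61000 rfl
  have h63 := forall_lt_step (b := 63000) h62 spiderTestAt62000 rfl
  have h64 := forall_lt_step (b := 64000) h63 spiderTestAt63000 rfl
  have h65 := forall_lt_step (b := 65000) h64 spiderTestAt64000 rfl
  have h66 := forall_lt_step (b := 66000) h65 spiderTestAt65000 rfl
  have h67 := forall_lt_step (b := 67000) h66 spiderTestAt66000 rfl
  have h68 := forall_lt_step (b := 68000) h67 spiderTestAt67000 rfl
  have h69 := forall_lt_step (b := 69000) h68 spiderTestAt68000 rfl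
  have h70 := forall_lt_step (b := 70000) h69 spiderTestAt69000 rfl
  have h71 := forall_lt_step (b := 71000) h70 spiderTestAt70000 rfl
  have h72 := forall_lt_step (b := 72000) h71 spiderTestAt71000 rfl
  have h73 := forall_lt_step (b := 73000) h72 spiderTestAt72000 rfl
  have h74 := forall_lt_step (b := 74000) h73 spiderTestAt73000 rfl
  have h75 := forall_lt_step (b := 75000) h74 spiderTestAt74000 rfl
  have h76 := forall_lt_step (b := 76000) h75 spiderTestAt75000 rfl
  have h77 := forall_lt_step (b := 77000) h76 spiderTestAt76000 rfl
  have h78 := forall_lt_step (b := 78000) h77 spiderTestAt77000 rfl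
  have h79 := forall_lt_step (b := 79000) h78 spiderTestAt78000 rfl
  have h80 := forall_lt_step (b := 80000) h79 spiderTestAt79000 rfl
  have h81 := forall_lt_step (b := 81000) h80 spiderTestAt80000 rfl
  have h82 := forall_lt_step (b := 82000) h81 spiderTestAt81000 rfl
  have h83 := forall_lt_step (b := 83000) h82 spiderTestAt82000 rfl
  have h84 := forall_lt_step (b := 84000) h83 spiderTestAt83000 rfl
  have h85 := forall_lt_step (b := 85000) h84 spiderTestAt84000 rfl
  have h86 := forall_lt_step (b := 86000) h85 spiderTestAt85000 rfl
  have h87 := forall_lt_step (b := 87000) h86 spiderTestAt86000 rfl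
  have h88 := forall_lt_step (b := 88000) h87 spiderTestAt87000 rfl
  have h89 := forall_lt_step (b := 89000) h88 spiderTestAt88000 rfl
  have h90 := forall_lt_step (b := 90000) h89 spiderTestAt89000 rfl
  have h91 := forall_lt_step (b := 91000) h90 spiderTestAt90000 rfl
  have h92 := forall_lt_step (b := 92000) h91 spiderTestAt91000 rfl
  have h93 := forall_lt_step (b := 93000) h92 spiderTestAt92000 rfl
  have h94 := forall_lt_step (b := 94000) h93 spiderTestAt93000 rfl
  have h95 := forall_lt_step (b := 95000) h94 spiderTestAt94000 rfl
  have h96 := forall_lt_step (b := 96000) h95 spiderTestAt95000 rfl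
  have h97 := forall_lt_step (b := 97000) h96 spiderTestAt96000 rfl
  have h98 := forall_lt_step (b := 98000) h97 spiderTestAt97000 rfl
  have h99 := forall_lt_step (b := 99000) h98 spiderTestAt98000 rfl
  have h100 := forall_lt_step (b := 100000) h99 spiderTestAt99000 rfl
  have h101 := forall_lt_step (b := 101000) h100 spiderTestAt100000 rfl
  have h102 := forall_lt_step (b := 102000) h101 spiderTestAt101000 rfl
  have h103 := forall_lt_step (b := 103000) h102 spiderTestAt102000 rfl
  have h104 := forall_lt_step (b := 104000) h103 spiderTestAt103000 rfl
  have h105 := forall_lt_step (b := 105000) h104 spiderTestAt104000 rfl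
  have h106 := forall_lt_step (b := 106000) h105 spiderTestAt105000 rfl
  have h107 := forall_lt_step (b := 107000) h106 spiderTestAt106000 rfl
  have h108 := forall_lt_step (b := 108000) h107 spiderTestAt107000 rfl
  have h109 := forall_lt_step (b := 109000) h108 spiderTestAt108000 rfl
  have h110 := forall_lt_step (b := 110000) h109 spiderTestAt109000 rfl
  have h111 := forall_lt_step (b := 111000) h110 spiderTestAt110000 rfl
  have h112 := forall_lt_step (b := 112000) h111 spiderTestAt111000 rfl
  have h113 := forall_lt_step (b := 113000) h112 spiderTestAt112000 rfl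
  have h114 := forall_lt_step (b := 114000) h113 spiderTestAt113000 rfl
  have h115 := forall_lt_step (b := 115000) h114 spiderTestAt114000 rfl
  have h116 := forall_lt_step (b := 116000) h115 spiderTestAt115000 rfl
  have h117 := forall_lt_step (b := 117000) h116 spiderTestAt116000 rfl
  have h118 := forall_lt_step (b := 118000) h117 spiderTestAt117000 rfl
  have h119 := forall_lt_step (b := 119000) h118 spiderTestAt118000 rfl
  have h120 := forall_lt_step (b := 120000) h119 spiderTestAt119000 rfl
  have h121 := forall_lt_step (b := 121000) h120 spiderTestAt120000 rfl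
  have h122 := forall_lt_step (b := 122000) h121 spiderTestAt121000 rfl
  have h123 := forall_lt_step (b := 123000) h122 spiderTestAt122000 rfl
  have h124 := forall_lt_step (b := 124000) h123 spiderTestAt123000 rfl
  have h125 := forall_lt_step (b := 125000) h124 spiderTestAt124000 rfl
  have h126 := forall_lt_step (b := 126000) h125 spiderTestAt125000 rfl
  have h127 := forall_lt_step (b := 127000) h126 spiderTestAt126000 rfl
  have h128 := forall_lt_step (b := 128000) h127 spiderTestAt127000 rfl
  have h129 := forall_lt_step (b := 129000) h128 spiderTestAt128000 rfl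
  have h130 := forall_lt_step (b := 130000) h129 spiderTestAt129000 rfl
  have h131 := forall_lt_step (b := 131000) h130 spiderTestAt130000 rfl
  have h132 := forall_lt_step (b := 132000) h131 spiderTestAt131000 rfl
  have h133 := forall_lt_step (b := 133000) h132 spiderTestAt132000 rfl
  have h134 := forall_lt_step (b := 134000) h133 spiderTestAt133000 rfl
  have h135 := forall_lt_step (b := 135000) h134 spiderTestAt134000 rfl
  have h136 := forall_lt_step (b := 136000) h135 spiderTestAt135000 rfl
  have h137 := forall_lt_step (b := 137000) h136 spiderTestAt136000 rfl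
  have h138 := forall_lt_step (b := 138000) h137 spiderTestAt137000 rfl
  have h139 := forall_lt_step (b := 139000) h138 spiderTestAt138000 rfl
  have h140 := forall_lt_step (b := 140000) h139 spiderTestAt139000 rfl
  have h141 := forall_lt_step (b := 141000) h140 spiderTestAt140000 rfl
  have h142 := forall_lt_step (b := 142000) h141 spiderTestAt141000 rfl
  have h143 := forall_lt_step (b := 143000) h142 spiderTestAt142000 rfl
  have h144 := forall_lt_step (b := 144000) h143 spiderTestAt143000 rfl
  have h145 := forall_lt_step (b := 145000) h144 spiderTestAt144000 rfl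
  have h146 := forall_lt_step (b := 146000) h145 spiderTestAt145000 rfl
  have h147 := forall_lt_step (b := 147000) h146 spiderTestAt146000 rfl
  have h148 := forall_lt_step (b := 148000) h147 spiderTestAt147000 rfl
  have h149 := forall_lt_step (b := 149000) h148 spiderTestAt148000 rfl
  have h150 := forall_lt_step (b := 150000) h149 spiderTestAt149000 rfl
  have h151 := forall_lt_step (b := 151000) h150 spiderTestAt150000 rfl
  have h152 := forall_lt_step (b := 152000) h151 spiderTestAt151000 rfl
  have h153 := forall_lt_step (b := 153000) h152 spiderTestAt152000 rfl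
  have h154 := forall_lt_step (b := 154000) h153 spiderTestAt153000 rfl
  have h155 := forall_lt_step (b := 155000) h154 spiderTestAt154000 rfl
  have h156 := forall_lt_step (b := 156000) h155 spiderTestAt155000 rfl
  have h157 := forall_lt_step (b := 157000) h156 spiderTestAt156000 rfl
  have h158 := forall_lt_step (b := 158000) h157 spiderTestAt157000 rfl
  have h159 := forall_lt_step (b := 159000) h158 spiderTestAt158000 rfl
  have h160 := forall_lt_step (b := 160000) h159 spiderTestAt159000 rfl
  have h161 := forall_lt_step (b := 161000) h160 spiderTestAt160000 rfl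
  have h162 := forall_lt_step (b := 162000) h161 spiderTestAt161000 rfl
  have h163 := forall_lt_step (b := 163000) h162 spiderTestAt162000 rfl
  have h164 := forall_lt_step (b := 164000) h163 spiderTestAt163000 rfl
  have h165 := forall_lt_step (b := 165000) h164 spiderTestAt164000 rfl
  have h166 := forall_lt_step (b := 166000) h165 spiderTestAt165000 rfl
  have h167 := forall_lt_step (b := 167000) h166 spiderTestAt166000 rfl
  have h168 := forall_lt_step (b := 168000) h167 spiderTestAt167000 rfl
  have h169 := forall_lt_step (b := 169000) h168 spiderTestAt168000 rfl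
  have h170 := forall_lt_step (b := 170000) h169 spiderTestAt169000 rfl
  have h171 := forall_lt_step (b := 171000) h170 spiderTestAt170000 rfl
  have h172 := forall_lt_step (b := 172000) h171 spiderTestAt171000 rfl
  have h173 := forall_lt_step (b := 173000) h172 spiderTestAt172000 rfl
  have h174 := forall_lt_step (b := 174000) h173 spiderTestAt173000 rfl
  have h175 := forall_lt_step (b := 175000) h174 spiderTestAt174000 rfl
  have h176 := forall_lt_step (b := 176000) h175 spiderTestAt175000 rfl
  have h177 := forall_lt_step (b := 177000) h176 spiderTestAt176000 rfl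
  have h178 := forall_lt_step (b := 178000) h177 spiderTestAt177000 rfl
  have h179 := forall_lt_step (b := 179000) h178 spiderTestAt178000 rfl
  have h180 := forall_lt_step (b := 180000) h179 spiderTestAt179000 rfl
  have h181 := forall_lt_step (b := 181000) h180 spiderTestAt180000 rfl
  have h182 := forall_lt_step (b := 182000) h181 spiderTestAt181000 rfl
  have h183 := forall_lt_step (b := 183000) h182 spiderTestAt182000 rfl
  have h184 := forall_lt_step (b := 184000) h183 spiderTestAt183000 rfl
  have h185 := forall_lt_step (b := 185000) h184 spiderTestAt184000 rfl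
  have h186 := forall_lt_step (b := 186000) h185 spiderTestAt185000 rfl
  have h187 := forall_lt_step (b := 187000) h186 spiderTestAt186000 rfl
  have h188 := forall_lt_step (b := 188000) h187 spiderTestAt187000 rfl
  have h189 := forall_lt_step (b := 189000) h188 spiderTestAt188000 rfl
  have h190 := forall_lt_step (b := 190000) h189 spiderTestAt189000 rfl
  have h191 := forall_lt_step (b := 191000) h190 spiderTestAt190000 rfl
  have h192 := forall_lt_step (b := 192000) h191 spiderTestAt191000 rfl
  have h193 := forall_lt_step (b := 193000) h192 spiderTestAt192000 rfl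
  have h194 := forall_lt_step (b := 194000) h193 spiderTestAt193000 rfl
  have h195 := forall_lt_step (b := 195000) h194 spiderTestAt194000 rfl
  have h196 := forall_lt_step (b := 196000) h195 spiderTestAt195000 rfl
  have h197 := forall_lt_step (b := 197000) h196 spiderTestAt196000 rfl
  have h198 := forall_lt_step (b := 198000) h197 spiderTestAt197000 rfl
  have h199 := forall_lt_step (b := 199000) h198 spiderTestAt198000 rfl
  have h200 := forall_lt_step (b := 200000) h199 spiderTestAt199000 rfl
  have h201 := forall_lt_step (b := 201000) h200 spiderTestAt200000 rfl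
  have h202 := forall_lt_step (b := 202000) h201 spiderTestAt201000 rfl
  have h203 := forall_lt_step (b := 203000) h202 spiderTestAt202000 rfl
  have h204 := forall_lt_step (b := 204000) h203 spiderTestAt203000 rfl
  have h205 := forall_lt_step (b := 205000) h204 spiderTestAt204000 rfl
  have h206 := forall_lt_step (b := 206000) h205 spiderTestAt205000 rfl
  have h207 := forall_lt_step (b := 207000) h206 spiderTestAt206000 rfl
  have h208 := forall_lt_step (b := 208000) h207 spiderTestAt207000 rfl
  have h209 := forall_lt_step (b := 209000) h208 spiderTestAt208000 rfl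
  have h210 := forall_lt_step (b := 210000) h209 spiderTestAt209000 rfl
  have h211 := forall_lt_step (b := 211000) h210 spiderTestAt210000 rfl
  have h212 := forall_lt_step (b := 212000) h211 spiderTestAt211000 rfl
  have h213 := forall_lt_step (b := 213000) h212 spiderTestAt212000 rfl
  have h214 := forall_lt_step (b := 214000) h213 spiderTestAt213000 rfl
  have h215 := forall_lt_step (b := 215000) h214 spiderTestAt214000 rfl
  have h216 := forall_lt_step (b := 216000) h215 spiderTestAt215000 rfl
  have h217 := forall_lt_step (b := 217000) h216 spiderTestAt216000 rfl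
  have h218 := forall_lt_step (b := 218000) h217 spiderTestAt217000 rfl
  have h219 := forall_lt_step (b := 219000) h218 spiderTestAt218000 rfl
  have h220 := forall_lt_step (b := 220000) h219 spiderTestAt219000 rfl
  have h221 := forall_lt_step (b := 221000) h220 spiderTestAt220000 rfl
  have h222 := forall_lt_step (b := 222000) h221 spiderTestAt221000 rfl
  have h223 := forall_lt_step (b := 223000) h222 spiderTestAt222000 rfl
  have h224 := forall_lt_step (b := 224000) h223 spiderTestAt223000 rfl
  have h225 := forall_lt_step (b := 225000) h224 spiderTestAt224000 rfl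
  have h226 := forall_lt_step (b := 226000) h225 spiderTestAt225000 rfl
  have h227 := forall_lt_step (b := 227000) h226 spiderTestAt226000 rfl
  have h228 := forall_lt_step (b := 228000) h227 spiderTestAt227000 rfl
  have h229 := forall_lt_step (b := 229000) h228 spiderTestAt228000 rfl
  have h230 := forall_lt_step (b := 230000) h229 spiderTestAt229000 rfl
  have h231 := forall_lt_step (b := 231000) h230 spiderTestAt230000 rfl
  have h232 := forall_lt_step (b := 232000) h231 spiderTestAt231000 rfl
  have h233 := forall_lt_step (b := 233000) h232 spiderTestAt232000 rfl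
  have h234 := forall_lt_step (b := 234000) h233 spiderTestAt233000 rfl
  have h235 := forall_lt_step (b := 235000) h234 spiderTestAt234000 rfl
  have h236 := forall_lt_step (b := 236000) h235 spiderTestAt235000 rfl
  have h237 := forall_lt_step (b := 237000) h236 spiderTestAt236000 rfl
  have h238 := forall_lt_step (b := 238000) h237 spiderTestAt237000 rfl
  have h239 := forall_lt_step (b := 239000) h238 spiderTestAt238000 rfl
  have h240 := forall_lt_step (b := 240000) h239 spiderTestAt239000 rfl
  have h241 := forall_lt_step (b := 241000) h240 spiderTestAt240000 rfl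
  have h242 := forall_lt_step (b := 242000) h241 spiderTestAt241000 rfl
  have h243 := forall_lt_step (b := 243000) h242 spiderTestAt242000 rfl
  have h244 := forall_lt_step (b := 244000) h243 spiderTestAt243000 rfl
  have h245 := forall_lt_step (b := 245000) h244 spiderTestAt244000 rfl
  have h246 := forall_lt_step (b := 246000) h245 spiderTestAt245000 rfl
  have h247 := forall_lt_step (b := 247000) h246 spiderTestAt246000 rfl
  have h248 := forall_lt_step (b := 248000) h247 spiderTestAt247000 rfl
  have h249 := forall_lt_step (b := 249000) h248 spiderTestAt248000 rfl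
  have h250 := forall_lt_step (b := 250000) h249 spiderTestAt249000 rfl
  have h251 := forall_lt_step (b := 251000) h250 spiderTestAt250000 rfl
  have h252 := forall_lt_step (b := 252000) h251 spiderTestAt251000 rfl
  have h253 := forall_lt_step (b := 253000) h252 spiderTestAt252000 rfl
  have h254 := forall_lt_step (b := 254000) h253 spiderTestAt253000 rfl
  have h255 := forall_lt_step (b := 255000) h254 spiderTestAt254000 rfl
  have h256 := forall_lt_step (b := 256000) h255 spiderTestAt255000 rfl
  have h257 := forall_lt_step (b := 257000) h256 spiderTestAt256000 rfl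
  have h258 := forall_lt_step (b := 258000) h257 spiderTestAt257000 rfl
  have h259 := forall_lt_step (b := 259000) h258 spiderTestAt258000 rfl
  have h260 := forall_lt_step (b := 260000) h259 spiderTestAt259000 rfl
  have h261 := forall_lt_step (b := 261000) h260 spiderTestAt260000 rfl
  have h262 := forall_lt_step (b := 262000) h261 spiderTestAt261000 rfl
  have h263 := forall_lt_step (b := 263000) h262 spiderTestAt262000 rfl
  have h264 := forall_lt_step (b := 264000) h263 spiderTestAt263000 rfl
  have h265 := forall_lt_step (b := 265000) h264 spiderTestAt264000 rfl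
  have h266 := forall_lt_step (b := 266000) h265 spiderTestAt265000 rfl
  have h267 := forall_lt_step (b := 267000) h266 spiderTestAt266000 rfl
  have h268 := forall_lt_step (b := 268000) h267 spiderTestAt267000 rfl
  have h269 := forall_lt_step (b := 269000) h268 spiderTestAt268000 rfl
  have h270 := forall_lt_step (b := 270000) h269 spiderTestAt269000 rfl
  have h271 := forall_lt_step (b := 271000) h270 spiderTestAt270000 rfl
  have h272 := forall_lt_step (b := 272000) h271 spiderTestAt271000 rfl
  have h273 := forall_lt_step (b := 273000) h272 spiderTestAt272000 rfl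
  have h274 := forall_lt_step (b := 274000) h273 spiderTestAt273000 rfl
  have h275 := forall_lt_step (b := 275000) h274 spiderTestAt274000 rfl
  have h276 := forall_lt_step (b := 276000) h275 spiderTestAt275000 rfl
  have h277 := forall_lt_step (b := 277000) h276 spiderTestAt276000 rfl
  have h278 := forall_lt_step (b := 278000) h277 spiderTestAt277000 rfl
  have h279 := forall_lt_step (b := 279000) h278 spiderTestAt278000 rfl
  have h280 := forall_lt_step (b := 280000) h279 spiderTestAt279000 rfl
  have h281 := forall_lt_step (b := 281000) h280 spiderTestAt280000 rfl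
  have h282 := forall_lt_step (b := 282000) h281 spiderTestAt281000 rfl
  have h283 := forall_lt_step (b := 283000) h282 spiderTestAt282000 rfl
  have h284 := forall_lt_step (b := 284000) h283 spiderTestAt283000 rfl
  have h285 := forall_lt_step (b := 285000) h284 spiderTestAt284000 rfl
  have h286 := forall_lt_step (b := 286000) h285 spiderTestAt285000 rfl
  have h287 := forall_lt_step (b := 287000) h286 spiderTestAt286000 rfl
  have h288 := forall_lt_step (b := 288000) h287 spiderTestAt287000 rfl
  have h289 := forall_lt_step (b := 289000) h288 spiderTestAt288000 rfl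
  have h290 := forall_lt_step (b := 290000) h289 spiderTestAt289000 rfl
  have h291 := forall_lt_step (b := 291000) h290 spiderTestAt290000 rfl
  have h292 := forall_lt_step (b := 292000) h291 spiderTestAt291000 rfl
  have h293 := forall_lt_step (b := 293000) h292 spiderTestAt292000 rfl
  have h294 := forall_lt_step (b := 294000) h293 spiderTestAt293000 rfl
  have h295 := forall_lt_step (b := 295000) h294 spiderTestAt294000 rfl
  have h296 := forall_lt_step (b := 296000) h295 spiderTestAt295000 rfl
  have h297 := forall_lt_step (b := 297000) h296 spiderTestAt296000 rfl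
  have h298 := forall_lt_step (b := 298000) h297 spiderTestAt297000 rfl
  have h299 := forall_lt_step (b := 299000) h298 spiderTestAt298000 rfl
  have h300 := forall_lt_step (b := 300000) h299 spiderTestAt299000 rfl
  have h301 := forall_lt_step (b := 301000) h300 spiderTestAt300000 rfl
  have h302 := forall_lt_step (b := 302000) h301 spiderTestAt301000 rfl
  have h303 := forall_lt_step (b := 303000) h302 spiderTestAt302000 rfl
  have h304 := forall_lt_step (b := 304000) h303 spiderTestAt303000 rfl
  have h305 := forall_lt_step (b := 305000) h304 spiderTestAt304000 rfl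
  have h306 := forall_lt_step (b := 306000) h305 spiderTestAt305000 rfl
  have h307 := forall_lt_step (b := 306936) h306 spiderTestAt306000 rfl
  exact h307

end Cfsg.Agent.Fi24Mult.Cov
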