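import Cfsg.Agent.Fi24Mult.Cov.Defs

/-! Generated: kernel checks. -/

set_option Elab.async false
set_option maxRecDepth 100000

namespace Cfsg.Agent.Fi24Mult.Cov

open Cfsg.Agent.CosetCert

theorem spiderTestAt0 : allFrom spiderTest 0 1000 = true := by decide +kernel

theorem spiderTestAt1000 : allFrom spiderTest 1000 1000 = true := by decide +kernel

theorem spiderTestAt2000 : allFrom spiderTest 2000 1000 = true := by decide +kernel

theorem spiderTestAt3000 : allFrom spiderTest 3000 1000 = true := by decide +kernel

theorem spiderTestAt4000 : allFrom spiderTest 4000 1000 = true := by decide +kernel

theorem spiderTestAt5000 : allFrom spiderTest 5000 1000 = true := by decide +kernel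

theorem spiderTestAt6000 : allFrom spiderTest 6000 1000 = true := by decide +kernel

theorem spiderTestAt7000 : allFrom spiderTest 7000 1000 = true := by decide +kernel

theorem spiderTestAt8000 : allFrom spiderTest 8000 1000 = true := by decide +kernel

theorem spiderTestAt9000 : allFrom spiderTest 9000 1000 = true := by decide +kernel

theorem spiderTestAt10000 : allFrom spiderTest 10000 1000 = true := by decide +kernel

theorem spiderTestAt11000 : allFrom spiderTest 11000 1000 = true := by decide +kernel

theorem spiderTestAt12000 : allFrom spiderTest 12000 1000 = true := by decide +kernel

theorem spiderTestAt13000 : allFrom spiderTest 13000 1000 = true := by decide +kernel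

theorem spiderTestAt14000 : allFrom spiderTest 14000 1000 = true := by decide +kernel

theorem spiderTestAt15000 : allFrom spiderTest 15000 1000 = true := by decide +kernel

theorem spiderTestAt16000 : allFrom spiderTest 16000 1000 = true := by decide +kernel

theorem spiderTestAt17000 : allFrom spiderTest 17000 1000 = true := by decide +kernel

theorem spiderTestAt18000 : allFrom spiderTest 18000 1000 = true := by decide +kernel

theorem spiderTestAt19000 : allFrom spiderTest 19000 1000 = true := by decide +kernel

theorem spiderTestAt20000 : allFrom spiderTest 20000 1000 = true := by decide +kernel

theorem spiderTestAt21000 : allFrom spiderTest 21000 1000 = true := by decide +kernel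

theorem spiderTestAt22000 : allFrom spiderTest 22000 1000 = true := by decide +kernel

theorem spiderTestAt23000 : allFrom spiderTest 23000 1000 = true := by decide +kernel

theorem spiderTestAt24000 : allFrom spiderTest 24000 1000 = true := by decide +kernel

theorem spiderTestAt25000 : allFrom spiderTest 25000 1000 = true := by decide +kernel

end Cfsg.Agent.Fi24Mult.Cov
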