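import Cfsg.Agent.Fi24Mult.Cov.Defs

/-! Generated: kernel checks. -/

set_option Elab.async false
set_option maxRecDepth 100000

namespace Cfsg.Agent.Fi24Mult.Cov

open Cfsg.Agent.CosetCert

theorem tailTestAt26000 : allFrom tailTest 26000 1000 = true := by decide +kernel

theorem tailTestAt27000 : allFrom tailTest 27000 1000 = true := by decide +kernel

theorem tailTestAt28000 : allFrom tailTest 28000 1000 = true := by decide +kernel

theorem tailTestAt29000 : allFrom tailTest 29000 1000 = true := by decide +kernel

theorem tailTestAt30000 : allFrom tailTest 30000 1000 = true := by decide +kernel

theorem tailTestAt31000 : allFrom tailTest 31000 1000 = true := by decide +kernel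

theorem tailTestAt32000 : allFrom tailTest 32000 1000 = true := by decide +kernel

theorem tailTestAt33000 : allFrom tailTest 33000 1000 = true := by decide +kernel

theorem tailTestAt34000 : allFrom tailTest 34000 1000 = true := by decide +kernel

theorem tailTestAt35000 : allFrom tailTest 35000 1000 = true := by decide +kernel

theorem tailTestAt36000 : allFrom tailTest 36000 1000 = true := by decide +kernel

theorem tailTestAt37000 : allFrom tailTest 37000 1000 = true := by decide +kernel

theorem tailTestAt38000 : allFrom tailTest 38000 1000 = true := by decide +kernel

theorem tailTestAt39000 : allFrom tailTest 39000 1000 = true := by decide +kernel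

theorem tailTestAt40000 : allFrom tailTest 40000 1000 = true := by decide +kernel

theorem tailTestAt41000 : allFrom tailTest 41000 1000 = true := by decide +kernel

theorem tailTestAt42000 : allFrom tailTest 42000 1000 = true := by decide +kernel

theorem tailTestAt43000 : allFrom tailTest 43000 1000 = true := by decide +kernel

theorem tailTestAt44000 : allFrom tailTest 44000 1000 = true := by decide +kernel

theorem tailTestAt45000 : allFrom tailTest 45000 1000 = true := by decide +kernel

theorem tailTestAt46000 : allFrom tailTest 46000 1000 = true := by decide +kernel

theorem tailTestAt47000 : allFrom tailTest 47000 1000 = true := by decide +kernel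

theorem tailTestAt48000 : allFrom tailTest 48000 1000 = true := by decide +kernel

theorem tailTestAt49000 : allFrom tailTest 49000 1000 = true := by decide +kernel

theorem tailTestAt50000 : allFrom tailTest 50000 1000 = true := by decide +kernel

theorem tailTestAt51000 : allFrom tailTest 51000 1000 = true := by decide +kernel

end Cfsg.Agent.Fi24Mult.Cov
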