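import Cfsg.Agent.Fi24Mult.Cov.Defs

/-! Generated: kernel checks. -/

set_option Elab.async false
set_option maxRecDepth 100000

namespace Cfsg.Agent.Fi24Mult.Cov

open Cfsg.Agent.CosetCert

theorem tailTestAt260000 : allFrom tailTest 260000 1000 = true := by decide +kernel

theorem tailTestAt261000 : allFrom tailTest 261000 1000 = true := by decide +kernel

theorem tailTestAt262000 : allFrom tailTest 262000 1000 = true := by decide +kernel

theorem tailTestAt263000 : allFrom tailTest 263000 1000 = true := by decide +kernel

theorem tailTestAt264000 : allFrom tailTest 264000 1000 = true := by decide +kernel

theorem tailTestAt265000 : allFrom tailTest 265000 1000 = true := by decide +kernel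

theorem tailTestAt266000 : allFrom tailTest 266000 1000 = true := by decide +kernel

theorem tailTestAt267000 : allFrom tailTest 267000 1000 = true := by decide +kernel

theorem tailTestAt268000 : allFrom tailTest 268000 1000 = true := by decide +kernel

theorem tailTestAt269000 : allFrom tailTest 269000 1000 = true := by decide +kernel

theorem tailTestAt270000 : allFrom tailTest 270000 1000 = true := by decide +kernel

theorem tailTestAt271000 : allFrom tailTest 271000 1000 = true := by decide +kernel

theorem tailTestAt272000 : allFrom tailTest 272000 1000 = true := by decide +kernel

theorem tailTestAt273000 : allFrom tailTest 273000 1000 = true := by decide +kernel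

theorem tailTestAt274000 : allFrom tailTest 274000 1000 = true := by decide +kernel

theorem tailTestAt275000 : allFrom tailTest 275000 1000 = true := by decide +kernel

theorem tailTestAt276000 : allFrom tailTest 276000 1000 = true := by decide +kernel

theorem tailTestAt277000 : allFrom tailTest 277000 1000 = true := by decide +kernel

theorem tailTestAt278000 : allFrom tailTest 278000 1000 = true := by decide +kernel

theorem tailTestAt279000 : allFrom tailTest 279000 1000 = true := by decide +kernel

theorem tailTestAt280000 : allFrom tailTest 280000 1000 = true := by decide +kernel

theorem tailTestAt281000 : allFrom tailTest 281000 1000 = true := by decide +kernel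

theorem tailTestAt282000 : allFrom tailTest 282000 1000 = true := by decide +kernel

theorem tailTestAt283000 : allFrom tailTest 283000 1000 = true := by decide +kernel

theorem tailTestAt284000 : allFrom tailTest 284000 1000 = true := by decide +kernel

theorem tailTestAt285000 : allFrom tailTest 285000 1000 = true := by decide +kernel

end Cfsg.Agent.Fi24Mult.Cov
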