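import Cfsg.Agent.Fi24Mult.Cov.Defs

/-! Generated: kernel checks. -/

set_option Elab.async false
set_option maxRecDepth 100000

namespace Cfsg.Agent.Fi24Mult.Cov

open Cfsg.Agent.CosetCert

theorem tailTestAt286000 : allFrom tailTest 286000 1000 = true := by decide +kernel

theorem tailTestAt287000 : allFrom tailTest 287000 1000 = true := by decide +kernel

theorem tailTestAt288000 : allFrom tailTest 288000 1000 = true := by decide +kernel

theorem tailTestAt289000 : allFrom tailTest 289000 1000 = true := by decide +kernel

theorem tailTestAt290000 : allFrom tailTest 290000 1000 = true := by decide +kernel

theorem tailTestAt291000 : allFrom tailTest 291000 1000 = true := by decide +kernel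

theorem tailTestAt292000 : allFrom tailTest 292000 1000 = true := by decide +kernel

theorem tailTestAt293000 : allFrom tailTest 293000 1000 = true := by decide +kernel

theorem tailTestAt294000 : allFrom tailTest 294000 1000 = true := by decide +kernel

theorem tailTestAt295000 : allFrom tailTest 295000 1000 = true := by decide +kernel

theorem tailTestAt296000 : allFrom tailTest 296000 1000 = true := by decide +kernel

theorem tailTestAt297000 : allFrom tailTest 297000 1000 = true := by decide +kernel

theorem tailTestAt298000 : allFrom tailTest 298000 1000 = true := by decide +kernel

theorem tailTestAt299000 : allFrom tailTest 299000 1000 = true := by decide +kernel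

theorem tailTestAt300000 : allFrom tailTest 300000 1000 = true := by decide +kernel

theorem tailTestAt301000 : allFrom tailTest 301000 1000 = true := by decide +kernel

theorem tailTestAt302000 : allFrom tailTest 302000 1000 = true := by decide +kernel

theorem tailTestAt303000 : allFrom tailTest 303000 1000 = true := by decide +kernel

theorem tailTestAt304000 : allFrom tailTest 304000 1000 = true := by decide +kernel

theorem tailTestAt305000 : allFrom tailTest 305000 1000 = true := by decide +kernel

theorem tailTestAt306000 : allFrom tailTest 306000 936 = true := by decide +kernel

end Cfsg.Agent.Fi24Mult.Cov
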