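import Cfsg.Agent.Fi24Mult.Cov.Defs

/-! Generated: kernel checks. -/

set_option Elab.async false
set_option maxRecDepth 100000

namespace Cfsg.Agent.Fi24Mult.Cov

open Cfsg.Agent.CosetCert

theorem tailTestAt52000 : allFrom tailTest 52000 1000 = true := by decide +kernel

theorem tailTestAt53000 : allFrom tailTest 53000 1000 = true := by decide +kernel

theorem tailTestAt54000 : allFrom tailTest 54000 1000 = true := by decide +kernel

theorem tailTestAt55000 : allFrom tailTest 55000 1000 = true := by decide +kernel

theorem tailTestAt56000 : allFrom tailTest 56000 1000 = true := by decide +kernel

theorem tailTestAt57000 : allFrom tailTest 57000 1000 = true := by decide +kernel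

theorem tailTestAt58000 : allFrom tailTest 58000 1000 = true := by decide +kernel

theorem tailTestAt59000 : allFrom tailTest 59000 1000 = true := by decide +kernel

theorem tailTestAt60000 : allFrom tailTest 60000 1000 = true := by decide +kernel

theorem tailTestAt61000 : allFrom tailTest 61000 1000 = true := by decide +kernel

theorem tailTestAt62000 : allFrom tailTest 62000 1000 = true := by decide +kernel

theorem tailTestAt63000 : allFrom tailTest 63000 1000 = true := by decide +kernel

theorem tailTestAt64000 : allFrom tailTest 64000 1000 = true := by decide +kernel

theorem tailTestAt65000 : allFrom tailTest 65000 1000 = true := by decide +kernel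

theorem tailTestAt66000 : allFrom tailTest 66000 1000 = true := by decide +kernel

theorem tailTestAt67000 : allFrom tailTest 67000 1000 = true := by decide +kernel

theorem tailTestAt68000 : allFrom tailTest 68000 1000 = true := by decide +kernel

theorem tailTestAt69000 : allFrom tailTest 69000 1000 = true := by decide +kernel

theorem tailTestAt70000 : allFrom tailTest 70000 1000 = true := by decide +kernel

theorem tailTestAt71000 : allFrom tailTest 71000 1000 = true := by decide +kernel

theorem tailTestAt72000 : allFrom tailTest 72000 1000 = true := by decide +kernel

theorem tailTestAt73000 : allFrom tailTest 73000 1000 = true := by decide +kernel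

theorem tailTestAt74000 : allFrom tailTest 74000 1000 = true := by decide +kernel

theorem tailTestAt75000 : allFrom tailTest 75000 1000 = true := by decide +kernel

theorem tailTestAt76000 : allFrom tailTest 76000 1000 = true := by decide +kernel

theorem tailTestAt77000 : allFrom tailTest 77000 1000 = true := by decide +kernel

end Cfsg.Agent.Fi24Mult.Cov
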