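import Cfsg.Agent.Fi24Mult.Cov.Defs

/-! Generated: kernel checks. -/

set_option Elab.async false
set_option maxRecDepth 100000

namespace Cfsg.Agent.Fi24Mult.Cov

open Cfsg.Agent.CosetCert

theorem tailTestAt78000 : allFrom tailTest 78000 1000 = true := by decide +kernel

theorem tailTestAt79000 : allFrom tailTest 79000 1000 = true := by decide +kernel

theorem tailTestAt80000 : allFrom tailTest 80000 1000 = true := by decide +kernel

theorem tailTestAt81000 : allFrom tailTest 81000 1000 = true := by decide +kernel

theorem tailTestAt82000 : allFrom tailTest 82000 1000 = true := by decide +kernel

theorem tailTestAt83000 : allFrom tailTest 83000 1000 = true := by decide +kernel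

theorem tailTestAt84000 : allFrom tailTest 84000 1000 = true := by decide +kernel

theorem tailTestAt85000 : allFrom tailTest 85000 1000 = true := by decide +kernel

theorem tailTestAt86000 : allFrom tailTest 86000 1000 = true := by decide +kernel

theorem tailTestAt87000 : allFrom tailTest 87000 1000 = true := by decide +kernel

theorem tailTestAt88000 : allFrom tailTest 88000 1000 = true := by decide +kernel

theorem tailTestAt89000 : allFrom tailTest 89000 1000 = true := by decide +kernel

theorem tailTestAt90000 : allFrom tailTest 90000 1000 = true := by decide +kernel

theorem tailTestAt91000 : allFrom tailTest 91000 1000 = true := by decide +kernel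

theorem tailTestAt92000 : allFrom tailTest 92000 1000 = true := by decide +kernel

theorem tailTestAt93000 : allFrom tailTest 93000 1000 = true := by decide +kernel

theorem tailTestAt94000 : allFrom tailTest 94000 1000 = true := by decide +kernel

theorem tailTestAt95000 : allFrom tailTest 95000 1000 = true := by decide +kernel

theorem tailTestAt96000 : allFrom tailTest 96000 1000 = true := by decide +kernel

theorem tailTestAt97000 : allFrom tailTest 97000 1000 = true := by decide +kernel

theorem tailTestAt98000 : allFrom tailTest 98000 1000 = true := by decide +kernel

theorem tailTestAt99000 : allFrom tailTest 99000 1000 = true := by decide +kernel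

theorem tailTestAt100000 : allFrom tailTest 100000 1000 = true := by decide +kernel

theorem tailTestAt101000 : allFrom tailTest 101000 1000 = true := by decide +kernel

theorem tailTestAt102000 : allFrom tailTest 102000 1000 = true := by decide +kernel

theorem tailTestAt103000 : allFrom tailTest 103000 1000 = true := by decide +kernel

end Cfsg.Agent.Fi24Mult.Cov
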