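import Cfsg.Agent.Fi24Mult.Cov.Defs

/-! Generated: kernel checks. -/

set_option Elab.async false
set_option maxRecDepth 100000

namespace Cfsg.Agent.Fi24Mult.Cov

open Cfsg.Agent.CosetCert

theorem tailTestAt104000 : allFrom tailTest 104000 1000 = true := by decide +kernel

theorem tailTestAt105000 : allFrom tailTest 105000 1000 = true := by decide +kernel

theorem tailTestAt106000 : allFrom tailTest 106000 1000 = true := by decide +kernel

theorem tailTestAt107000 : allFrom tailTest 107000 1000 = true := by decide +kernel

theorem tailTestAt108000 : allFrom tailTest 108000 1000 = true := by decide +kernel

theorem tailTestAt109000 : allFrom tailTest 109000 1000 = true := by decide +kernel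

theorem tailTestAt110000 : allFrom tailTest 110000 1000 = true := by decide +kernel

theorem tailTestAt111000 : allFrom tailTest 111000 1000 = true := by decide +kernel

theorem tailTestAt112000 : allFrom tailTest 112000 1000 = true := by decide +kernel

theorem tailTestAt113000 : allFrom tailTest 113000 1000 = true := by decide +kernel

theorem tailTestAt114000 : allFrom tailTest 114000 1000 = true := by decide +kernel

theorem tailTestAt115000 : allFrom tailTest 115000 1000 = true := by decide +kernel

theorem tailTestAt116000 : allFrom tailTest 116000 1000 = true := by decide +kernel

theorem tailTestAt117000 : allFrom tailTest 117000 1000 = true := by decide +kernel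

theorem tailTestAt118000 : allFrom tailTest 118000 1000 = true := by decide +kernel

theorem tailTestAt119000 : allFrom tailTest 119000 1000 = true := by decide +kernel

theorem tailTestAt120000 : allFrom tailTest 120000 1000 = true := by decide +kernel

theorem tailTestAt121000 : allFrom tailTest 121000 1000 = true := by decide +kernel

theorem tailTestAt122000 : allFrom tailTest 122000 1000 = true := by decide +kernel

theorem tailTestAt123000 : allFrom tailTest 123000 1000 = true := by decide +kernel

theorem tailTestAt124000 : allFrom tailTest 124000 1000 = true := by decide +kernel

theorem tailTestAt125000 : allFrom tailTest 125000 1000 = true := by decide +kernel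

theorem tailTestAt126000 : allFrom tailTest 126000 1000 = true := by decide +kernel

theorem tailTestAt127000 : allFrom tailTest 127000 1000 = true := by decide +kernel

theorem tailTestAt128000 : allFrom tailTest 128000 1000 = true := by decide +kernel

theorem tailTestAt129000 : allFrom tailTest 129000 1000 = true := by decide +kernel

end Cfsg.Agent.Fi24Mult.Cov
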