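import Cfsg.Agent.Fi24Mult.Cov.Defs

/-! Generated: kernel checks. -/

set_option Elab.async false
set_option maxRecDepth 100000

namespace Cfsg.Agent.Fi24Mult.Cov

open Cfsg.Agent.CosetCert

theorem tailTestAt130000 : allFrom tailTest 130000 1000 = true := by decide +kernel

theorem tailTestAt131000 : allFrom tailTest 131000 1000 = true := by decide +kernel

theorem tailTestAt132000 : allFrom tailTest 132000 1000 = true := by decide +kernel

theorem tailTestAt133000 : allFrom tailTest 133000 1000 = true := by decide +kernel

theorem tailTestAt134000 : allFrom tailTest 134000 1000 = true := by decide +kernel

theorem tailTestAt135000 : allFrom tailTest 135000 1000 = true := by decide +kernel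

theorem tailTestAt136000 : allFrom tailTest 136000 1000 = true := by decide +kernel

theorem tailTestAt137000 : allFrom tailTest 137000 1000 = true := by decide +kernel

theorem tailTestAt138000 : allFrom tailTest 138000 1000 = true := by decide +kernel

theorem tailTestAt139000 : allFrom tailTest 139000 1000 = true := by decide +kernel

theorem tailTestAt140000 : allFrom tailTest 140000 1000 = true := by decide +kernel

theorem tailTestAt141000 : allFrom tailTest 141000 1000 = true := by decide +kernel

theorem tailTestAt142000 : allFrom tailTest 142000 1000 = true := by decide +kernel

theorem tailTestAt143000 : allFrom tailTest 143000 1000 = true := by decide +kernel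

theorem tailTestAt144000 : allFrom tailTest 144000 1000 = true := by decide +kernel

theorem tailTestAt145000 : allFrom tailTest 145000 1000 = true := by decide +kernel

theorem tailTestAt146000 : allFrom tailTest 146000 1000 = true := by decide +kernel

theorem tailTestAt147000 : allFrom tailTest 147000 1000 = true := by decide +kernel

theorem tailTestAt148000 : allFrom tailTest 148000 1000 = true := by decide +kernel

theorem tailTestAt149000 : allFrom tailTest 149000 1000 = true := by decide +kernel

theorem tailTestAt150000 : allFrom tailTest 150000 1000 = true := by decide +kernel

theorem tailTestAt151000 : allFrom tailTest 151000 1000 = true := by decide +kernel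

theorem tailTestAt152000 : allFrom tailTest 152000 1000 = true := by decide +kernel

theorem tailTestAt153000 : allFrom tailTest 153000 1000 = true := by decide +kernel

theorem tailTestAt154000 : allFrom tailTest 154000 1000 = true := by decide +kernel

theorem tailTestAt155000 : allFrom tailTest 155000 1000 = true := by decide +kernel

end Cfsg.Agent.Fi24Mult.Cov
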