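import Cfsg.Agent.Fi24Mult.Cov.Defs

/-! Generated: kernel checks. -/

set_option Elab.async false
set_option maxRecDepth 100000

namespace Cfsg.Agent.Fi24Mult.Cov

open Cfsg.Agent.CosetCert

theorem tailTestAt156000 : allFrom tailTest 156000 1000 = true := by decide +kernel

theorem tailTestAt157000 : allFrom tailTest 157000 1000 = true := by decide +kernel

theorem tailTestAt158000 : allFrom tailTest 158000 1000 = true := by decide +kernel

theorem tailTestAt159000 : allFrom tailTest 159000 1000 = true := by decide +kernel

theorem tailTestAt160000 : allFrom tailTest 160000 1000 = true := by decide +kernel

theorem tailTestAt161000 : allFrom tailTest 161000 1000 = true := by decide +kernel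

theorem tailTestAt162000 : allFrom tailTest 162000 1000 = true := by decide +kernel

theorem tailTestAt163000 : allFrom tailTest 163000 1000 = true := by decide +kernel

theorem tailTestAt164000 : allFrom tailTest 164000 1000 = true := by decide +kernel

theorem tailTestAt165000 : allFrom tailTest 165000 1000 = true := by decide +kernel

theorem tailTestAt166000 : allFrom tailTest 166000 1000 = true := by decide +kernel

theorem tailTestAt167000 : allFrom tailTest 167000 1000 = true := by decide +kernel

theorem tailTestAt168000 : allFrom tailTest 168000 1000 = true := by decide +kernel

theorem tailTestAt169000 : allFrom tailTest 169000 1000 = true := by decide +kernel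

theorem tailTestAt170000 : allFrom tailTest 170000 1000 = true := by decide +kernel

theorem tailTestAt171000 : allFrom tailTest 171000 1000 = true := by decide +kernel

theorem tailTestAt172000 : allFrom tailTest 172000 1000 = true := by decide +kernel

theorem tailTestAt173000 : allFrom tailTest 173000 1000 = true := by decide +kernel

theorem tailTestAt174000 : allFrom tailTest 174000 1000 = true := by decide +kernel

theorem tailTestAt175000 : allFrom tailTest 175000 1000 = true := by decide +kernel

theorem tailTestAt176000 : allFrom tailTest 176000 1000 = true := by decide +kernel

theorem tailTestAt177000 : allFrom tailTest 177000 1000 = true := by decide +kernel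

theorem tailTestAt178000 : allFrom tailTest 178000 1000 = true := by decide +kernel

theorem tailTestAt179000 : allFrom tailTest 179000 1000 = true := by decide +kernel

theorem tailTestAt180000 : allFrom tailTest 180000 1000 = true := by decide +kernel

theorem tailTestAt181000 : allFrom tailTest 181000 1000 = true := by decide +kernel

end Cfsg.Agent.Fi24Mult.Cov
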