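import Cfsg.Agent.Fi24Mult.Cov.Defs

/-! Generated: kernel checks. -/

set_option Elab.async false
set_option maxRecDepth 100000

namespace Cfsg.Agent.Fi24Mult.Cov

open Cfsg.Agent.CosetCert

theorem tailTestAt182000 : allFrom tailTest 182000 1000 = true := by decide +kernel

theorem tailTestAt183000 : allFrom tailTest 183000 1000 = true := by decide +kernel

theorem tailTestAt184000 : allFrom tailTest 184000 1000 = true := by decide +kernel

theorem tailTestAt185000 : allFrom tailTest 185000 1000 = true := by decide +kernel

theorem tailTestAt186000 : allFrom tailTest 186000 1000 = true := by decide +kernel

theorem tailTestAt187000 : allFrom tailTest 187000 1000 = true := by decide +kernel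

theorem tailTestAt188000 : allFrom tailTest 188000 1000 = true := by decide +kernel

theorem tailTestAt189000 : allFrom tailTest 189000 1000 = true := by decide +kernel

theorem tailTestAt190000 : allFrom tailTest 190000 1000 = true := by decide +kernel

theorem tailTestAt191000 : allFrom tailTest 191000 1000 = true := by decide +kernel

theorem tailTestAt192000 : allFrom tailTest 192000 1000 = true := by decide +kernel

theorem tailTestAt193000 : allFrom tailTest 193000 1000 = true := by decide +kernel

theorem tailTestAt194000 : allFrom tailTest 194000 1000 = true := by decide +kernel

theorem tailTestAt195000 : allFrom tailTest 195000 1000 = true := by decide +kernel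

theorem tailTestAt196000 : allFrom tailTest 196000 1000 = true := by decide +kernel

theorem tailTestAt197000 : allFrom tailTest 197000 1000 = true := by decide +kernel

theorem tailTestAt198000 : allFrom tailTest 198000 1000 = true := by decide +kernel

theorem tailTestAt199000 : allFrom tailTest 199000 1000 = true := by decide +kernel

theorem tailTestAt200000 : allFrom tailTest 200000 1000 = true := by decide +kernel

theorem tailTestAt201000 : allFrom tailTest 201000 1000 = true := by decide +kernel

theorem tailTestAt202000 : allFrom tailTest 202000 1000 = true := by decide +kernel

theorem tailTestAt203000 : allFrom tailTest 203000 1000 = true := by decide +kernel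

theorem tailTestAt204000 : allFrom tailTest 204000 1000 = true := by decide +kernel

theorem tailTestAt205000 : allFrom tailTest 205000 1000 = true := by decide +kernel

theorem tailTestAt206000 : allFrom tailTest 206000 1000 = true := by decide +kernel

theorem tailTestAt207000 : allFrom tailTest 207000 1000 = true := by decide +kernel

end Cfsg.Agent.Fi24Mult.Cov
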