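import Cfsg.Agent.Fi24Mult.Cov.Defs

/-! Generated: kernel checks. -/

set_option Elab.async false
set_option maxRecDepth 100000

namespace Cfsg.Agent.Fi24Mult.Cov

open Cfsg.Agent.CosetCert

theorem tailTestAt208000 : allFrom tailTest 208000 1000 = true := by decide +kernel

theorem tailTestAt209000 : allFrom tailTest 209000 1000 = true := by decide +kernel

theorem tailTestAt210000 : allFrom tailTest 210000 1000 = true := by decide +kernel

theorem tailTestAt211000 : allFrom tailTest 211000 1000 = true := by decide +kernel

theorem tailTestAt212000 : allFrom tailTest 212000 1000 = true := by decide +kernel

theorem tailTestAt213000 : allFrom tailTest 213000 1000 = true := by decide +kernel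

theorem tailTestAt214000 : allFrom tailTest 214000 1000 = true := by decide +kernel

theorem tailTestAt215000 : allFrom tailTest 215000 1000 = true := by decide +kernel

theorem tailTestAt216000 : allFrom tailTest 216000 1000 = true := by decide +kernel

theorem tailTestAt217000 : allFrom tailTest 217000 1000 = true := by decide +kernel

theorem tailTestAt218000 : allFrom tailTest 218000 1000 = true := by decide +kernel

theorem tailTestAt219000 : allFrom tailTest 219000 1000 = true := by decide +kernel

theorem tailTestAt220000 : allFrom tailTest 220000 1000 = true := by decide +kernel

theorem tailTestAt221000 : allFrom tailTest 221000 1000 = true := by decide +kernel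

theorem tailTestAt222000 : allFrom tailTest 222000 1000 = true := by decide +kernel

theorem tailTestAt223000 : allFrom tailTest 223000 1000 = true := by decide +kernel

theorem tailTestAt224000 : allFrom tailTest 224000 1000 = true := by decide +kernel

theorem tailTestAt225000 : allFrom tailTest 225000 1000 = true := by decide +kernel

theorem tailTestAt226000 : allFrom tailTest 226000 1000 = true := by decide +kernel

theorem tailTestAt227000 : allFrom tailTest 227000 1000 = true := by decide +kernel

theorem tailTestAt228000 : allFrom tailTest 228000 1000 = true := by decide +kernel

theorem tailTestAt229000 : allFrom tailTest 229000 1000 = true := by decide +kernel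

theorem tailTestAt230000 : allFrom tailTest 230000 1000 = true := by decide +kernel

theorem tailTestAt231000 : allFrom tailTest 231000 1000 = true := by decide +kernel

theorem tailTestAt232000 : allFrom tailTest 232000 1000 = true := by decide +kernel

theorem tailTestAt233000 : allFrom tailTest 233000 1000 = true := by decide +kernel

end Cfsg.Agent.Fi24Mult.Cov
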