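import Cfsg.Agent.Fi24Mult.Cov.Defs

/-! Generated: kernel checks. -/

set_option Elab.async false
set_option maxRecDepth 100000

namespace Cfsg.Agent.Fi24Mult.Cov

open Cfsg.Agent.CosetCert

theorem tailTestAt234000 : allFrom tailTest 234000 1000 = true := by decide +kernel

theorem tailTestAt235000 : allFrom tailTest 235000 1000 = true := by decide +kernel

theorem tailTestAt236000 : allFrom tailTest 236000 1000 = true := by decide +kernel

theorem tailTestAt237000 : allFrom tailTest 237000 1000 = true := by decide +kernel

theorem tailTestAt238000 : allFrom tailTest 238000 1000 = true := by decide +kernel

theorem tailTestAt239000 : allFrom tailTest 239000 1000 = true := by decide +kernel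

theorem tailTestAt240000 : allFrom tailTest 240000 1000 = true := by decide +kernel

theorem tailTestAt241000 : allFrom tailTest 241000 1000 = true := by decide +kernel

theorem tailTestAt242000 : allFrom tailTest 242000 1000 = true := by decide +kernel

theorem tailTestAt243000 : allFrom tailTest 243000 1000 = true := by decide +kernel

theorem tailTestAt244000 : allFrom tailTest 244000 1000 = true := by decide +kernel

theorem tailTestAt245000 : allFrom tailTest 245000 1000 = true := by decide +kernel

theorem tailTestAt246000 : allFrom tailTest 246000 1000 = true := by decide +kernel

theorem tailTestAt247000 : allFrom tailTest 247000 1000 = true := by decide +kernel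

theorem tailTestAt248000 : allFrom tailTest 248000 1000 = true := by decide +kernel

theorem tailTestAt249000 : allFrom tailTest 249000 1000 = true := by decide +kernel

theorem tailTestAt250000 : allFrom tailTest 250000 1000 = true := by decide +kernel

theorem tailTestAt251000 : allFrom tailTest 251000 1000 = true := by decide +kernel

theorem tailTestAt252000 : allFrom tailTest 252000 1000 = true := by decide +kernel

theorem tailTestAt253000 : allFrom tailTest 253000 1000 = true := by decide +kernel

theorem tailTestAt254000 : allFrom tailTest 254000 1000 = true := by decide +kernel

theorem tailTestAt255000 : allFrom tailTest 255000 1000 = true := by decide +kernel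

theorem tailTestAt256000 : allFrom tailTest 256000 1000 = true := by decide +kernel

theorem tailTestAt257000 : allFrom tailTest 257000 1000 = true := by decide +kernel

theorem tailTestAt258000 : allFrom tailTest 258000 1000 = true := by decide +kernel

theorem tailTestAt259000 : allFrom tailTest 259000 1000 = true := by decide +kernel

end Cfsg.Agent.Fi24Mult.Cov
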