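import Cfsg.Agent.Fi24Mult.Cov.CheckTail0
import Cfsg.Agent.Fi24Mult.Cov.CheckTail1
import Cfsg.Agent.Fi24Mult.Cov.CheckTail2
import Cfsg.Agent.Fi24Mult.Cov.CheckTail3
import Cfsg.Agent.Fi24Mult.Cov.CheckTail4
import Cfsg.Agent.Fi24Mult.Cov.CheckTail5
import Cfsg.Agent.Fi24Mult.Cov.CheckTail6
import Cfsg.Agent.Fi24Mult.Cov.CheckTail7
import Cfsg.Agent.Fi24Mult.Cov.CheckTail8
import Cfsg.Agent.Fi24Mult.Cov.CheckTail9
import Cfsg.Agent.Fi24Mult.Cov.CheckTail10
import Cfsg.Agent.Fi24Mult.Cov.CheckTail11

/-! Generated: kernel checks. -/

set_option Elab.async false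
set_option maxRecDepth 100000

namespace Cfsg.Agent.Fi24Mult.Cov

open Cfsg.Agent.CosetCert

theorem tailTest_ok : ∀ c, c < 306936 → tailTest c = true := by
  have h0 : ∀ i, i < 0 → tailTest i = true := forall_lt_zero
  have h1 := forall_lt_step (b := 1000) h0 tailTestAt0 rfl
  have h2 := forall_lt_step (b := 2000) h1 tailTestAt1000 rfl
  have h3 := forall_lt_step (b := 3000) h2 tailTestAt2000 rfl
  have h4 := forall_lt_step (b := 4000) h3 tailTestAt3000 rfl
  have h5 := forall_lt_step (b := 5000) h4 tailTestAt4000 rfl
  have h6 := forall_lt_step (b := 6000) h5 tailTestAt5000 rfl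
  have h7 := forall_lt_step (b := 7000) h6 tailTestAt6000 rfl
  have h8 := forall_lt_step (b := 8000) h7 tailTestAt7000 rfl
  have h9 := forall_lt_step (b := 9000) h8 tailTestAt8000 rfl
  have h10 := forall_lt_step (b := 10000) h9 tailTestAt9000 rfl
  have h11 := forall_lt_step (b := 11000) h10 tailTestAt10000 rfl
  have h12 := forall_lt_step (b := 12000) h11 tailTestAt11000 rfl
  have h13 := forall_lt_step (b := 13000) h12 tailTestAt12000 rfl
  have h14 := forall_lt_step (b := 14000) h13 tailTestAt13000 rfl
  have h15 := forall_lt_step (b := 15000) h14 tailTestAt14000 rfl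
  have h16 := forall_lt_step (b := 16000) h15 tailTestAt15000 rfl
  have h17 := forall_lt_step (b := 17000) h16 tailTestAt16000 rfl
  have h18 := forall_lt_step (b := 18000) h17 tailTestAt17000 rfl
  have h19 := forall_lt_step (b := 19000) h18 tailTestAt18000 rfl
  have h20 := forall_lt_step (b := 20000) h19 tailTestAt19000 rfl
  have h21 := forall_lt_step (b := 21000) h20 tailTestAt20000 rfl
  have h22 := forall_lt_step (b := 22000) h21 tailTestAt21000 rfl
  have h23 := forall_lt_step (b := 23000) h22 tailTestAt22000 rfl
  have h24 := forall_lt_step (b := 24000) h23 tailTestAt23000 rfl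
  have h25 := forall_lt_step (b := 25000) h24 tailTestAt24000 rfl
  have h26 := forall_lt_step (b := 26000) h25 tailTestAt25000 rfl
  have h27 := forall_lt_step (b := 27000) h26 tailTestAt26000 rfl
  have h28 := forall_lt_step (b := 28000) h27 tailTestAt27000 rfl
  have h29 := forall_lt_step (b := 29000) h28 tailTestAt28000 rfl
  have h30 := forall_lt_step (b := 30000) h29 tailTestAt29000 rfl
  have h31 := forall_lt_step (b := 31000) h30 tailTestAt30000 rfl
  have h32 := forall_lt_step (b := 32000) h31 tailTestAt31000 rfl
  have h33 := forall_lt_step (b := 33000) h32 tailTestAt32000 rfl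
  have h34 := forall_lt_step (b := 34000) h33 tailTestAt33000 rfl
  have h35 := forall_lt_step (b := 35000) h34 tailTestAt34000 rfl
  have h36 := forall_lt_step (b := 36000) h35 tailTestAt35000 rfl
  have h37 := forall_lt_step (b := 37000) h36 tailTestAt36000 rfl
  have h38 := forall_lt_step (b := 38000) h37 tailTestAt37000 rfl
  have h39 := forall_lt_step (b := 39000) h38 tailTestAt38000 rfl
  have h40 := forall_lt_step (b := 40000) h39 tailTestAt39000 rfl
  have h41 := forall_lt_step (b := 41000) h40 tailTestAt40000 rfl
  have h42 := forall_lt_step (b := 42000) h41 tailTestAt41000 rfl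
  have h43 := forall_lt_step (b := 43000) h42 tailTestAt42000 rfl
  have h44 := forall_lt_step (b := 44000) h43 tailTestAt43000 rfl
  have h45 := forall_lt_step (b := 45000) h44 tailTestAt44000 rfl
  have h46 := forall_lt_step (b := 46000) h45 tailTestAt45000 rfl
  have h47 := forall_lt_step (b := 47000) h46 tailTestAt46000 rfl
  have h48 := forall_lt_step (b := 48000) h47 tailTestAt47000 rfl
  have h49 := forall_lt_step (b := 49000) h48 tailTestAt48000 rfl
  have h50 := forall_lt_step (b := 50000) h49 tailTestAt49000 rfl
  have h51 := forall_lt_step (b := 51000) h50 tailTestAt50000 rfl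
  have h52 := forall_lt_step (b := 52000) h51 tailTestAt51000 rfl
  have h53 := forall_lt_step (b := 53000) h52 tailTestAt52000 rfl
  have h54 := forall_lt_step (b := 54000) h53 tailTestAt53000 rfl
  have h55 := forall_lt_step (b := 55000) h54 tailTestAt54000 rfl
  have h56 := forall_lt_step (b := 56000) h55 tailTestAt55000 rfl
  have h57 := forall_lt_step (b := 57000) h56 tailTestAt56000 rfl
  have h58 := forall_lt_step (b := 58000) h57 tailTestAt57000 rfl
  have h59 := forall_lt_step (b := 59000) h58 tailTestAt58000 rfl
  have h60 := forall_lt_step (b := 60000) h59 tailTestAt59000 rfl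
  have h61 := forall_lt_step (b := 61000) h60 tailTestAt60000 rfl
  have h62 := forall_lt_step (b := 62000) h61 tailTestAt61000 rfl
  have h63 := forall_lt_step (b := 63000) h62 tailTestAt62000 rfl
  have h64 := forall_lt_step (b := 64000) h63 tailTestAt63000 rfl
  have h65 := forall_lt_step (b := 65000) h64 tailTestAt64000 rfl
  have h66 := forall_lt_step (b := 66000) h65 tailTestAt65000 rfl
  have h67 := forall_lt_step (b := 67000) h66 tailTestAt66000 rfl
  have h68 := forall_lt_step (b := 68000) h67 tailTestAt67000 rfl
  have h69 := forall_lt_step (b := 69000) h68 tailTestAt68000 rfl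
  have h70 := forall_lt_step (b := 70000) h69 tailTestAt69000 rfl
  have h71 := forall_lt_step (b := 71000) h70 tailTestAt70000 rfl
  have h72 := forall_lt_step (b := 72000) h71 tailTestAt71000 rfl
  have h73 := forall_lt_step (b := 73000) h72 tailTestAt72000 rfl
  have h74 := forall_lt_step (b := 74000) h73 tailTestAt73000 rfl
  have h75 := forall_lt_step (b := 75000) h74 tailTestAt74000 rfl
  have h76 := forall_lt_step (b := 76000) h75 tailTestAt75000 rfl
  have h77 := forall_lt_step (b := 77000) h76 tailTestAt76000 rfl
  have h78 := forall_lt_step (b := 78000) h77 tailTestAt77000 rfl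
  have h79 := forall_lt_step (b := 79000) h78 tailTestAt78000 rfl
  have h80 := forall_lt_step (b := 80000) h79 tailTestAt79000 rfl
  have h81 := forall_lt_step (b := 81000) h80 tailTestAt80000 rfl
  have h82 := forall_lt_step (b := 82000) h81 tailTestAt81000 rfl
  have h83 := forall_lt_step (b := 83000) h82 tailTestAt82000 rfl
  have h84 := forall_lt_step (b := 84000) h83 tailTestAt83000 rfl
  have h85 := forall_lt_step (b := 85000) h84 tailTestAt84000 rfl
  have h86 := forall_lt_step (b := 86000) h85 tailTestAt85000 rfl
  have h87 := forall_lt_step (b := 87000) h86 tailTestAt86000 rfl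
  have h88 := forall_lt_step (b := 88000) h87 tailTestAt87000 rfl
  have h89 := forall_lt_step (b := 89000) h88 tailTestAt88000 rfl
  have h90 := forall_lt_step (b := 90000) h89 tailTestAt89000 rfl
  have h91 := forall_lt_step (b := 91000) h90 tailTestAt90000 rfl
  have h92 := forall_lt_step (b := 92000) h91 tailTestAt91000 rfl
  have h93 := forall_lt_step (b := 93000) h92 tailTestAt92000 rfl
  have h94 := forall_lt_step (b := 94000) h93 tailTestAt93000 rfl
  have h95 := forall_lt_step (b := 95000) h94 tailTestAt94000 rfl
  have h96 := forall_lt_step (b := 96000) h95 tailTestAt95000 rfl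
  have h97 := forall_lt_step (b := 97000) h96 tailTestAt96000 rfl
  have h98 := forall_lt_step (b := 98000) h97 tailTestAt97000 rfl
  have h99 := forall_lt_step (b := 99000) h98 tailTestAt98000 rfl
  have h100 := forall_lt_step (b := 100000) h99 tailTestAt99000 rfl
  have h101 := forall_lt_step (b := 101000) h100 tailTestAt100000 rfl
  have h102 := forall_lt_step (b := 102000) h101 tailTestAt101000 rfl
  have h103 := forall_lt_step (b := 103000) h102 tailTestAt102000 rfl
  have h104 := forall_lt_step (b := 104000) h103 tailTestAt103000 rfl
  have h105 := forall_lt_step (b := 105000) h104 tailTestAt104000 rfl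
  have h106 := forall_lt_step (b := 106000) h105 tailTestAt105000 rfl
  have h107 := forall_lt_step (b := 107000) h106 tailTestAt106000 rfl
  have h108 := forall_lt_step (b := 108000) h107 tailTestAt107000 rfl
  have h109 := forall_lt_step (b := 109000) h108 tailTestAt108000 rfl
  have h110 := forall_lt_step (b := 110000) h109 tailTestAt109000 rfl
  have h111 := forall_lt_step (b := 111000) h110 tailTestAt110000 rfl
  have h112 := forall_lt_step (b := 112000) h111 tailTestAt111000 rfl
  have h113 := forall_lt_step (b := 113000) h112 tailTestAt112000 rfl
  have h114 := forall_lt_step (b := 114000) h113 tailTestAt113000 rfl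
  have h115 := forall_lt_step (b := 115000) h114 tailTestAt114000 rfl
  have h116 := forall_lt_step (b := 116000) h115 tailTestAt115000 rfl
  have h117 := forall_lt_step (b := 117000) h116 tailTestAt116000 rfl
  have h118 := forall_lt_step (b := 118000) h117 tailTestAt117000 rfl
  have h119 := forall_lt_step (b := 119000) h118 tailTestAt118000 rfl
  have h120 := forall_lt_step (b := 120000) h119 tailTestAt119000 rfl
  have h121 := forall_lt_step (b := 121000) h120 tailTestAt120000 rfl
  have h122 := forall_lt_step (b := 122000) h121 tailTestAt121000 rfl
  have h123 := forall_lt_step (b := 123000) h122 tailTestAt122000 rfl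
  have h124 := forall_lt_step (b := 124000) h123 tailTestAt123000 rfl
  have h125 := forall_lt_step (b := 125000) h124 tailTestAt124000 rfl
  have h126 := forall_lt_step (b := 126000) h125 tailTestAt125000 rfl
  have h127 := forall_lt_step (b := 127000) h126 tailTestAt126000 rfl
  have h128 := forall_lt_step (b := 128000) h127 tailTestAt127000 rfl
  have h129 := forall_lt_step (b := 129000) h128 tailTestAt128000 rfl
  have h130 := forall_lt_step (b := 130000) h129 tailTestAt129000 rfl
  have h131 := forall_lt_step (b := 131000) h130 tailTestAt130000 rfl
  have h132 := forall_lt_step (b := 132000) h131 tailTestAt131000 rfl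
  have h133 := forall_lt_step (b := 133000) h132 tailTestAt132000 rfl
  have h134 := forall_lt_step (b := 134000) h133 tailTestAt133000 rfl
  have h135 := forall_lt_step (b := 135000) h134 tailTestAt134000 rfl
  have h136 := forall_lt_step (b := 136000) h135 tailTestAt135000 rfl
  have h137 := forall_lt_step (b := 137000) h136 tailTestAt136000 rfl
  have h138 := forall_lt_step (b := 138000) h137 tailTestAt137000 rfl
  have h139 := forall_lt_step (b := 139000) h138 tailTestAt138000 rfl
  have h140 := forall_lt_step (b := 140000) h139 tailTestAt139000 rfl
  have h141 := forall_lt_step (b := 141000) h140 tailTestAt140000 rfl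
  have h142 := forall_lt_step (b := 142000) h141 tailTestAt141000 rfl
  have h143 := forall_lt_step (b := 143000) h142 tailTestAt142000 rfl
  have h144 := forall_lt_step (b := 144000) h143 tailTestAt143000 rfl
  have h145 := forall_lt_step (b := 145000) h144 tailTestAt144000 rfl
  have h146 := forall_lt_step (b := 146000) h145 tailTestAt145000 rfl
  have h147 := forall_lt_step (b := 147000) h146 tailTestAt146000 rfl
  have h148 := forall_lt_step (b := 148000) h147 tailTestAt147000 rfl
  have h149 := forall_lt_step (b := 149000) h148 tailTestAt148000 rfl
  have h150 := forall_lt_step (b := 150000) h149 tailTestAt149000 rfl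
  have h151 := forall_lt_step (b := 151000) h150 tailTestAt150000 rfl
  have h152 := forall_lt_step (b := 152000) h151 tailTestAt151000 rfl
  have h153 := forall_lt_step (b := 153000) h152 tailTestAt152000 rfl
  have h154 := forall_lt_step (b := 154000) h153 tailTestAt153000 rfl
  have h155 := forall_lt_step (b := 155000) h154 tailTestAt154000 rfl
  have h156 := forall_lt_step (b := 156000) h155 tailTestAt155000 rfl
  have h157 := forall_lt_step (b := 157000) h156 tailTestAt156000 rfl
  have h158 := forall_lt_step (b := 158000) h157 tailTestAt157000 rfl
  have h159 := forall_lt_step (b := 159000) h158 tailTestAt158000 rfl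
  have h160 := forall_lt_step (b := 160000) h159 tailTestAt159000 rfl
  have h161 := forall_lt_step (b := 161000) h160 tailTestAt160000 rfl
  have h162 := forall_lt_step (b := 162000) h161 tailTestAt161000 rfl
  have h163 := forall_lt_step (b := 163000) h162 tailTestAt162000 rfl
  have h164 := forall_lt_step (b := 164000) h163 tailTestAt163000 rfl
  have h165 := forall_lt_step (b := 165000) h164 tailTestAt164000 rfl
  have h166 := forall_lt_step (b := 166000) h165 tailTestAt165000 rfl
  have h167 := forall_lt_step (b := 167000) h166 tailTestAt166000 rfl
  have h168 := forall_lt_step (b := 168000) h167 tailTestAt167000 rfl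
  have h169 := forall_lt_step (b := 169000) h168 tailTestAt168000 rfl
  have h170 := forall_lt_step (b := 170000) h169 tailTestAt169000 rfl
  have h171 := forall_lt_step (b := 171000) h170 tailTestAt170000 rfl
  have h172 := forall_lt_step (b := 172000) h171 tailTestAt171000 rfl
  have h173 := forall_lt_step (b := 173000) h172 tailTestAt172000 rfl
  have h174 := forall_lt_step (b := 174000) h173 tailTestAt173000 rfl
  have h175 := forall_lt_step (b := 175000) h174 tailTestAt174000 rfl
  have h176 := forall_lt_step (b := 176000) h175 tailTestAt175000 rfl
  have h177 := forall_lt_step (b := 177000) h176 tailTestAt176000 rfl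
  have h178 := forall_lt_step (b := 178000) h177 tailTestAt177000 rfl
  have h179 := forall_lt_step (b := 179000) h178 tailTestAt178000 rfl
  have h180 := forall_lt_step (b := 180000) h179 tailTestAt179000 rfl
  have h181 := forall_lt_step (b := 181000) h180 tailTestAt180000 rfl
  have h182 := forall_lt_step (b := 182000) h181 tailTestAt181000 rfl
  have h183 := forall_lt_step (b := 183000) h182 tailTestAt182000 rfl
  have h184 := forall_lt_step (b := 184000) h183 tailTestAt183000 rfl
  have h185 := forall_lt_step (b := 185000) h184 tailTestAt184000 rfl
  have h186 := forall_lt_step (b := 186000) h185 tailTestAt185000 rfl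
  have h187 := forall_lt_step (b := 187000) h186 tailTestAt186000 rfl
  have h188 := forall_lt_step (b := 188000) h187 tailTestAt187000 rfl
  have h189 := forall_lt_step (b := 189000) h188 tailTestAt188000 rfl
  have h190 := forall_lt_step (b := 190000) h189 tailTestAt189000 rfl
  have h191 := forall_lt_step (b := 191000) h190 tailTestAt190000 rfl
  have h192 := forall_lt_step (b := 192000) h191 tailTestAt191000 rfl
  have h193 := forall_lt_step (b := 193000) h192 tailTestAt192000 rfl
  have h194 := forall_lt_step (b := 194000) h193 tailTestAt193000 rfl
  have h195 := forall_lt_step (b := 195000) h194 tailTestAt194000 rfl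
  have h196 := forall_lt_step (b := 196000) h195 tailTestAt195000 rfl
  have h197 := forall_lt_step (b := 197000) h196 tailTestAt196000 rfl
  have h198 := forall_lt_step (b := 198000) h197 tailTestAt197000 rfl
  have h199 := forall_lt_step (b := 199000) h198 tailTestAt198000 rfl
  have h200 := forall_lt_step (b := 200000) h199 tailTestAt199000 rfl
  have h201 := forall_lt_step (b := 201000) h200 tailTestAt200000 rfl
  have h202 := forall_lt_step (b := 202000) h201 tailTestAt201000 rfl
  have h203 := forall_lt_step (b := 203000) h202 tailTestAt202000 rfl
  have h204 := forall_lt_step (b := 204000) h203 tailTestAt203000 rfl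
  have h205 := forall_lt_step (b := 205000) h204 tailTestAt204000 rfl
  have h206 := forall_lt_step (b := 206000) h205 tailTestAt205000 rfl
  have h207 := forall_lt_step (b := 207000) h206 tailTestAt206000 rfl
  have h208 := forall_lt_step (b := 208000) h207 tailTestAt207000 rfl
  have h209 := forall_lt_step (b := 209000) h208 tailTestAt208000 rfl
  have h210 := forall_lt_step (b := 210000) h209 tailTestAt209000 rfl
  have h211 := forall_lt_step (b := 211000) h210 tailTestAt210000 rfl
  have h212 := forall_lt_step (b := 212000) h211 tailTestAt211000 rfl
  have h213 := forall_lt_step (b := 213000) h212 tailTestAt212000 rfl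
  have h214 := forall_lt_step (b := 214000) h213 tailTestAt213000 rfl
  have h215 := forall_lt_step (b := 215000) h214 tailTestAt214000 rfl
  have h216 := forall_lt_step (b := 216000) h215 tailTestAt215000 rfl
  have h217 := forall_lt_step (b := 217000) h216 tailTestAt216000 rfl
  have h218 := forall_lt_step (b := 218000) h217 tailTestAt217000 rfl
  have h219 := forall_lt_step (b := 219000) h218 tailTestAt218000 rfl
  have h220 := forall_lt_step (b := 220000) h219 tailTestAt219000 rfl
  have h221 := forall_lt_step (b := 221000) h220 tailTestAt220000 rfl
  have h222 := forall_lt_step (b := 222000) h221 tailTestAt221000 rfl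
  have h223 := forall_lt_step (b := 223000) h222 tailTestAt222000 rfl
  have h224 := forall_lt_step (b := 224000) h223 tailTestAt223000 rfl
  have h225 := forall_lt_step (b := 225000) h224 tailTestAt224000 rfl
  have h226 := forall_lt_step (b := 226000) h225 tailTestAt225000 rfl
  have h227 := forall_lt_step (b := 227000) h226 tailTestAt226000 rfl
  have h228 := forall_lt_step (b := 228000) h227 tailTestAt227000 rfl
  have h229 := forall_lt_step (b := 229000) h228 tailTestAt228000 rfl
  have h230 := forall_lt_step (b := 230000) h229 tailTestAt229000 rfl
  have h231 := forall_lt_step (b := 231000) h230 tailTestAt230000 rfl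
  have h232 := forall_lt_step (b := 232000) h231 tailTestAt231000 rfl
  have h233 := forall_lt_step (b := 233000) h232 tailTestAt232000 rfl
  have h234 := forall_lt_step (b := 234000) h233 tailTestAt233000 rfl
  have h235 := forall_lt_step (b := 235000) h234 tailTestAt234000 rfl
  have h236 := forall_lt_step (b := 236000) h235 tailTestAt235000 rfl
  have h237 := forall_lt_step (b := 237000) h236 tailTestAt236000 rfl
  have h238 := forall_lt_step (b := 238000) h237 tailTestAt237000 rfl
  have h239 := forall_lt_step (b := 239000) h238 tailTestAt238000 rfl
  have h240 := forall_lt_step (b := 240000) h239 tailTestAt239000 rfl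
  have h241 := forall_lt_step (b := 241000) h240 tailTestAt240000 rfl
  have h242 := forall_lt_step (b := 242000) h241 tailTestAt241000 rfl
  have h243 := forall_lt_step (b := 243000) h242 tailTestAt242000 rfl
  have h244 := forall_lt_step (b := 244000) h243 tailTestAt243000 rfl
  have h245 := forall_lt_step (b := 245000) h244 tailTestAt244000 rfl
  have h246 := forall_lt_step (b := 246000) h245 tailTestAt245000 rfl
  have h247 := forall_lt_step (b := 247000) h246 tailTestAt246000 rfl
  have h248 := forall_lt_step (b := 248000) h247 tailTestAt247000 rfl
  have h249 := forall_lt_step (b := 249000) h248 tailTestAt248000 rfl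
  have h250 := forall_lt_step (b := 250000) h249 tailTestAt249000 rfl
  have h251 := forall_lt_step (b := 251000) h250 tailTestAt250000 rfl
  have h252 := forall_lt_step (b := 252000) h251 tailTestAt251000 rfl
  have h253 := forall_lt_step (b := 253000) h252 tailTestAt252000 rfl
  have h254 := forall_lt_step (b := 254000) h253 tailTestAt253000 rfl
  have h255 := forall_lt_step (b := 255000) h254 tailTestAt254000 rfl
  have h256 := forall_lt_step (b := 256000) h255 tailTestAt255000 rfl
  have h257 := forall_lt_step (b := 257000) h256 tailTestAt256000 rfl
  have h258 := forall_lt_step (b := 258000) h257 tailTestAt257000 rfl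
  have h259 := forall_lt_step (b := 259000) h258 tailTestAt258000 rfl
  have h260 := forall_lt_step (b := 260000) h259 tailTestAt259000 rfl
  have h261 := forall_lt_step (b := 261000) h260 tailTestAt260000 rfl
  have h262 := forall_lt_step (b := 262000) h261 tailTestAt261000 rfl
  have h263 := forall_lt_step (b := 263000) h262 tailTestAt262000 rfl
  have h264 := forall_lt_step (b := 264000) h263 tailTestAt263000 rfl
  have h265 := forall_lt_step (b := 265000) h264 tailTestAt264000 rfl
  have h266 := forall_lt_step (b := 266000) h265 tailTestAt265000 rfl
  have h267 := forall_lt_step (b := 267000) h266 tailTestAt266000 rfl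
  have h268 := forall_lt_step (b := 268000) h267 tailTestAt267000 rfl
  have h269 := forall_lt_step (b := 269000) h268 tailTestAt268000 rfl
  have h270 := forall_lt_step (b := 270000) h269 tailTestAt269000 rfl
  have h271 := forall_lt_step (b := 271000) h270 tailTestAt270000 rfl
  have h272 := forall_lt_step (b := 272000) h271 tailTestAt271000 rfl
  have h273 := forall_lt_step (b := 273000) h272 tailTestAt272000 rfl
  have h274 := forall_lt_step (b := 274000) h273 tailTestAt273000 rfl
  have h275 := forall_lt_step (b := 275000) h274 tailTestAt274000 rfl
  have h276 := forall_lt_step (b := 276000) h275 tailTestAt275000 rfl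
  have h277 := forall_lt_step (b := 277000) h276 tailTestAt276000 rfl
  have h278 := forall_lt_step (b := 278000) h277 tailTestAt277000 rfl
  have h279 := forall_lt_step (b := 279000) h278 tailTestAt278000 rfl
  have h280 := forall_lt_step (b := 280000) h279 tailTestAt279000 rfl
  have h281 := forall_lt_step (b := 281000) h280 tailTestAt280000 rfl
  have h282 := forall_lt_step (b := 282000) h281 tailTestAt281000 rfl
  have h283 := forall_lt_step (b := 283000) h282 tailTestAt282000 rfl
  have h284 := forall_lt_step (b := 284000) h283 tailTestAt283000 rfl
  have h285 := forall_lt_step (b := 285000) h284 tailTestAt284000 rfl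
  have h286 := forall_lt_step (b := 286000) h285 tailTestAt285000 rfl
  have h287 := forall_lt_step (b := 287000) h286 tailTestAt286000 rfl
  have h288 := forall_lt_step (b := 288000) h287 tailTestAt287000 rfl
  have h289 := forall_lt_step (b := 289000) h288 tailTestAt288000 rfl
  have h290 := forall_lt_step (b := 290000) h289 tailTestAt289000 rfl
  have h291 := forall_lt_step (b := 291000) h290 tailTestAt290000 rfl
  have h292 := forall_lt_step (b := 292000) h291 tailTestAt291000 rfl
  have h293 := forall_lt_step (b := 293000) h292 tailTestAt292000 rfl
  have h294 := forall_lt_step (b := 294000) h293 tailTestAt293000 rfl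
  have h295 := forall_lt_step (b := 295000) h294 tailTestAt294000 rfl
  have h296 := forall_lt_step (b := 296000) h295 tailTestAt295000 rfl
  have h297 := forall_lt_step (b := 297000) h296 tailTestAt296000 rfl
  have h298 := forall_lt_step (b := 298000) h297 tailTestAt297000 rfl
  have h299 := forall_lt_step (b := 299000) h298 tailTestAt298000 rfl
  have h300 := forall_lt_step (b := 300000) h299 tailTestAt299000 rfl
  have h301 := forall_lt_step (b := 301000) h300 tailTestAt300000 rfl
  have h302 := forall_lt_step (b := 302000) h301 tailTestAt301000 rfl
  have h303 := forall_lt_step (b := 303000) h302 tailTestAt302000 rfl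
  have h304 := forall_lt_step (b := 304000) h303 tailTestAt303000 rfl
  have h305 := forall_lt_step (b := 305000) h304 tailTestAt304000 rfl
  have h306 := forall_lt_step (b := 306000) h305 tailTestAt305000 rfl
  have h307 := forall_lt_step (b := 306936) h306 tailTestAt306000 rfl
  exact h307

end Cfsg.Agent.Fi24Mult.Cov
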