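import Cfsg.Agent.Fi24Mult.Cov.Defs

/-! Generated: kernel checks. -/

set_option Elab.async false
set_option maxRecDepth 100000

namespace Cfsg.Agent.Fi24Mult.Cov

open Cfsg.Agent.CosetCert

theorem tailTestAt0 : allFrom tailTest 0 1000 = true := by decide +kernel

theorem tailTestAt1000 : allFrom tailTest 1000 1000 = true := by decide +kernel

theorem tailTestAt2000 : allFrom tailTest 2000 1000 = true := by decide +kernel

theorem tailTestAt3000 : allFrom tailTest 3000 1000 = true := by decide +kernel

theorem tailTestAt4000 : allFrom tailTest 4000 1000 = true := by decide +kernel

theorem tailTestAt5000 : allFrom tailTest 5000 1000 = true := by decide +kernel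

theorem tailTestAt6000 : allFrom tailTest 6000 1000 = true := by decide +kernel

theorem tailTestAt7000 : allFrom tailTest 7000 1000 = true := by decide +kernel

theorem tailTestAt8000 : allFrom tailTest 8000 1000 = true := by decide +kernel

theorem tailTestAt9000 : allFrom tailTest 9000 1000 = true := by decide +kernel

theorem tailTestAt10000 : allFrom tailTest 10000 1000 = true := by decide +kernel

theorem tailTestAt11000 : allFrom tailTest 11000 1000 = true := by decide +kernel

theorem tailTestAt12000 : allFrom tailTest 12000 1000 = true := by decide +kernel

theorem tailTestAt13000 : allFrom tailTest 13000 1000 = true := by decide +kernel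

theorem tailTestAt14000 : allFrom tailTest 14000 1000 = true := by decide +kernel

theorem tailTestAt15000 : allFrom tailTest 15000 1000 = true := by decide +kernel

theorem tailTestAt16000 : allFrom tailTest 16000 1000 = true := by decide +kernel

theorem tailTestAt17000 : allFrom tailTest 17000 1000 = true := by decide +kernel

theorem tailTestAt18000 : allFrom tailTest 18000 1000 = true := by decide +kernel

theorem tailTestAt19000 : allFrom tailTest 19000 1000 = true := by decide +kernel

theorem tailTestAt20000 : allFrom tailTest 20000 1000 = true := by decide +kernel

theorem tailTestAt21000 : allFrom tailTest 21000 1000 = true := by decide +kernel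

theorem tailTestAt22000 : allFrom tailTest 22000 1000 = true := by decide +kernel

theorem tailTestAt23000 : allFrom tailTest 23000 1000 = true := by decide +kernel

theorem tailTestAt24000 : allFrom tailTest 24000 1000 = true := by decide +kernel

theorem tailTestAt25000 : allFrom tailTest 25000 1000 = true := by decide +kernel

end Cfsg.Agent.Fi24Mult.Cov
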