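import Cfsg.Agent.CosetCert.Fi24Index.Defs
import Cfsg.Agent.Fi24Mult.VRun
import Cfsg.Agent.Fi24Mult.Cov.RowVals
import Cfsg.Agent.Fi24Mult.Cov.SpiderSteps
import Cfsg.Agent.Fi24Mult.Cov.CoxeterSteps

/-! Generated: the values modulo 3 on the table of Fi24. -/

set_option maxRecDepth 100000

namespace Cfsg.Agent.Fi24Mult.Cov

open Cfsg.Agent.CosetCert

/-- Entry `i` of 24 bits. -/
noncomputable def get24 (S : Store) (i : Nat) : Nat :=
  force (S.get (Nat.div i 128)) fun v =>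
    Nat.land (Nat.shiftRight v (Nat.mul 24 (Nat.mod i 128))) 16777215

/-- The values at a coset. -/
noncomputable def VR : Nat → Nat := get24 rowVals

/-- The value of an edge. -/
noncomputable def V (c x : Nat) : Nat := Nat.land (Nat.shiftRight (VR c) (Nat.mul 2 x)) 3

/-- The relator words on two letters. -/
def pairWords : List (List Nat) := [[0, 0],
    [0, 1, 0, 1, 0, 1],
    [0, 2, 0, 2],
    [0, 3, 0, 3],
    [0, 4, 0, 4],
    [0, 5, 0, 5],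
    [0, 6, 0, 6],
    [0, 7, 0, 7],
    [0, 8, 0, 8],
    [0, 9, 0, 9],
    [0, 10, 0, 10],
    [0, 11, 0, 11, 0, 11],
    [1, 1],
    [1, 2, 1, 2, 1, 2],
    [1, 3, 1, 3],
    [1, 4, 1, 4],
    [1, 5, 1, 5],
    [1, 6, 1, 6],
    [1, 7, 1, 7],
    [1, 8, 1, 8],
    [1, 9, 1, 9],
    [1, 10, 1, 10],
    [1, 11, 1, 11],
    [2, 2],
    [2, 3, 2, 3, 2, 3],
    [2, 4, 2, 4],
    [2, 5, 2, 5],
    [2, 6, 2, 6],
    [2, 7, 2, 7],
    [2, 8, 2, 8],
    [2, 9, 2, 9],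
    [2, 10, 2, 10],
    [2, 11, 2, 11],
    [3, 3],
    [3, 4, 3, 4, 3, 4],
    [3, 5, 3, 5],
    [3, 6, 3, 6],
    [3, 7, 3, 7],
    [3, 8, 3, 8],
    [3, 9, 3, 9],
    [3, 10, 3, 10],
    [3, 11, 3, 11],
    [4, 4],
    [4, 5, 4, 5, 4, 5],
    [4, 6, 4, 6],
    [4, 7, 4, 7, 4, 7],
    [4, 8, 4, 8],
    [4, 9, 4, 9],
    [4, 10, 4, 10],
    [4, 11, 4, 11],
    [5, 5],
    [5, 6, 5, 6, 5, 6],
    [5, 7, 5, 7],
    [5, 8, 5, 8],
    [5, 9, 5, 9],
    [5, 10, 5, 10],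
    [5, 11, 5, 11],
    [6, 6],
    [6, 7, 6, 7],
    [6, 8, 6, 8],
    [6, 9, 6, 9],
    [6, 10, 6, 10],
    [6, 11, 6, 11],
    [7, 7],
    [7, 8, 7, 8, 7, 8],
    [7, 9, 7, 9],
    [7, 10, 7, 10],
    [7, 11, 7, 11],
    [8, 8],
    [8, 9, 8, 9, 8, 9],
    [8, 10, 8, 10],
    [8, 11, 8, 11],
    [9, 9],
    [9, 10, 9, 10, 9, 10],
    [9, 11, 9, 11],
    [10, 10],
    [10, 11, 10, 11],
    [11, 11]]

noncomputable def pairsTest (c : Nat) : Bool :=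
  checkPairWords Fi24Index.data VR V pairWords c

noncomputable def spiderTest (c : Nat) : Bool :=
  checkVPower Fi24Index.data V Fi24Index.spider [] (get24 spiderSteps) false 17 2 c

noncomputable def tailTest (c : Nat) : Bool :=
  checkVPower Fi24Index.data V Fi24Index.coxeter [11] (get24 coxeterSteps) true 9 0 c

end Cfsg.Agent.Fi24Mult.Cov
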